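import Cfsg.Prelude.Def_Blocks
import Cfsg.Agent.Coherence.System
import Cfsg.Agent.Char.Clifford
import Cfsg.Agent.Char.Linear
import Cfsg.Agent.CharArith.PrimeCodegree
import Mathlib.GroupTheory.FiniteAbelian.Duality
import Mathlib.RingTheory.RootsOfUnity.AlgebraicallyClosed
import Mathlib.Analysis.Complex.Polynomial.Basic

/-!
# The characters induced from a normal subgroup: `Cfsg.inducedIrrAbove`
-/

set_option autoImplicit false

namespace Cfsg.Agent.OddChars

open Cfsg.Agent.Char
open Cfsg.Agent.CharArith (charDegree_spec card_center_mul_sq_le)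
open scoped ComplexConjugate

universe u

variable {L : Type u} [Group L]

/-- The irreducible characters of `K` that are nonprincipal and trivial on `A`. -/
def Above (K A : Subgroup L) : Set (K → ℂ) :=
  {θ | IsIrrCharacter K θ ∧ θ ≠ (fun _ => 1) ∧ ∀ a : K, (a : L) ∈ A → θ a = θ 1}

variable [Fintype L] {K A B : Subgroup L}

theorem mem_inducedIrrAbove {φ : L → ℂ} :
    φ ∈ inducedIrrAbove K A ↔ ∃ θ ∈ Above K A, φ = indFun K θ :=
  ⟨fun ⟨θ, h1, h2, h3, h4⟩ => ⟨θ, ⟨h1, h2, h3⟩, h4⟩, fun ⟨θ, ⟨h1, h2, h3⟩, h4⟩ => ⟨θ, h1, h2, h3, h4⟩⟩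

theorem inducedIrrAbove_mono (h : A ≤ B) : inducedIrrAbove K B ⊆ inducedIrrAbove K A := by
  intro φ hφ
  obtain ⟨θ, ⟨h1, h2, h3⟩, rfl⟩ := mem_inducedIrrAbove.1 hφ
  exact ⟨θ, h1, h2, fun a ha => h3 a (h ha), rfl⟩

theorem inducedIrrAbove_subset_bot : inducedIrrAbove K A ⊆ inducedIrrAbove K ⊥ :=
  inducedIrrAbove_mono bot_le

theorem above_conj_mem {θ : K → ℂ} (h : θ ∈ Above K A) :
    Cfsg.conjFun θ ∈ Above K A :=
  ⟨Coherence.isIrr_conjFun h.1,
    fun e => h.2.1 (funext fun x => by
      have := congrArg conj (congrFun e x); simpa [Cfsg.conjFun] using this),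
    fun a ha => by simp [Cfsg.conjFun, h.2.2 a ha]⟩

theorem conjFun_indFun (θ : K → ℂ) : Cfsg.conjFun (indFun K θ) = indFun K (Cfsg.conjFun θ) := by
  funext g
  simp only [Cfsg.conjFun, indFun_apply, map_mul, map_inv₀, map_natCast, map_sum]
  congr 1
  refine Finset.sum_congr rfl fun x _ => ?_
  by_cases hx : x⁻¹ * g * x ∈ K
  · simp [extendByZero_of_mem K _ hx, Cfsg.conjFun]
  · simp [extendByZero_of_not_mem K _ hx]

theorem inducedIrrAbove_conj_mem {φ : L → ℂ} (h : φ ∈ inducedIrrAbove K A) :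
    Cfsg.conjFun φ ∈ inducedIrrAbove K A := by
  obtain ⟨θ, hθ, rfl⟩ := mem_inducedIrrAbove.1 h
  exact mem_inducedIrrAbove.2 ⟨_, above_conj_mem hθ, conjFun_indFun θ⟩

variable [K.Normal]

/-- Conjugate characters induce the same function. -/
theorem indFun_conj (g : L) (θ : K → ℂ) : indFun K (Char.conjFun g θ) = indFun K θ := by
  funext x
  by_cases hx : x ∈ K
  · show (fun n : K => indFun K (Char.conjFun g θ) n) ⟨x, hx⟩ = (fun n : K => indFun K θ n) ⟨x, hx⟩
    rw [res_indFun_eq_sum, res_indFun_eq_sum]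
    simp only [Pi.smul_apply, Finset.sum_apply, conjFun_conjFun]
    congr 1
    exact Fintype.sum_equiv (Equiv.mulLeft g) _ _ fun _ => rfl
  · rw [indFun_apply_of_normal K _ hx, indFun_apply_of_normal K _ hx]

/-- Induced irreducible characters agree only on orbits. -/
theorem indFun_eq_iff {θ η : K → ℂ} (hθ : IsIrrCharacter K θ) (hη : IsIrrCharacter K η) :
    indFun K θ = indFun K η ↔ η ∈ orbit (G := L) θ := by
  classical
  constructor
  · intro e
    by_contra hno
    have h0 : classInner (indFun K θ) (indFun K η) = 0 := by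
      rw [classInner_indFun_indFun hθ hη]
      have : IsEmpty {g : L // Char.conjFun g θ = η} := ⟨fun g => hno (mem_orbit.2 ⟨g, g.2⟩)⟩
      simp
    rw [← e, Char.classInner_self_eq_zero] at h0
    have := congrFun h0 1
    rw [indFun_apply_one] at this
    rcases mul_eq_zero.1 this with h | h
    · exact K.index_ne_zero_of_finite (by exact_mod_cast h)
    · exact IsIrr.one_ne_zero hθ h
  · intro h
    obtain ⟨g, rfl⟩ := mem_orbit.1 h
    exact (indFun_conj g θ).symm

theorem above_orbit [A.Normal] {θ η : K → ℂ} (hθ : θ ∈ Above K A) (h : η ∈ orbit (G := L) θ) :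
    η ∈ Above K A := by
  obtain ⟨g, rfl⟩ := mem_orbit.1 h
  refine ⟨isIrr_conjFun g hθ.1, fun e => hθ.2.1 ?_, fun a ha => ?_⟩
  · apply conjFun_injective g
    rw [e]; rfl
  · rw [conjFun_apply_one, conjFun_apply]
    refine hθ.2.2 _ ?_
    show _ ∈ A
    simpa using (inferInstance : A.Normal).conj_mem (a : L) ha g

/-- The norm of an induced character times the size of the orbit. -/
theorem classInner_indFun_self {θ : K → ℂ} (hθ : IsIrrCharacter K θ) :
    classInner (indFun K θ) (indFun K θ) * ((orbit (G := L) θ).card : ℂ) = K.index := by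
  classical
  have h1 : Nat.card {g : L // Char.conjFun g θ = θ} = Nat.card (inertia (G := L) θ) := rfl
  rw [classInner_indFun_indFun hθ hθ, h1, card_orbit, mul_assoc, ← Nat.cast_mul,
    Subgroup.card_mul_index, ← Subgroup.card_mul_index K, Nat.cast_mul, ← mul_assoc,
    inv_mul_cancel₀ (Nat.cast_ne_zero.2 Nat.card_pos.ne'), one_mul]

omit [K.Normal] in
theorem above_finite : (Above K A).Finite := by
  classical
  exact Coherence.irr_set_finite fun _ h => h.1

omit [K.Normal] in
theorem inducedIrrAbove_finite : (inducedIrrAbove K A).Finite :=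
  ((above_finite (K := K) (A := A)).image (indFun K)).subset fun φ hφ => by
    obtain ⟨θ, hθ, rfl⟩ := mem_inducedIrrAbove.1 hφ
    exact ⟨θ, hθ, rfl⟩

/-- The squares of the degrees of the characters of `K` trivial on `A`. -/
theorem sum_sq_above [A.Normal] (hAK : A ≤ K) :
    ∑ θ ∈ (above_finite (K := K) (A := A)).toFinset, charDegree θ ^ 2 + 1 = A.relIndex K := by
  classical
  have : Fintype (K ⧸ A.subgroupOf K) := Fintype.ofFinite _
  have key : (∑ θ ∈ insert (fun _ => (1 : ℂ)) (above_finite (K := K) (A := A)).toFinset,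
      (charDegree θ : ℂ) ^ 2) = (A.relIndex K : ℂ) := by
    rw [Subgroup.relIndex, Subgroup.index_eq_card, ← sum_sq_degree (G := K ⧸ A.subgroupOf K)]
    symm
    refine Finset.sum_bij (fun φ _ => ((quotientEquiv (A.subgroupOf K) φ).1 : K → ℂ)) ?_ ?_ ?_ ?_
    · intro φ _
      by_cases h : ((quotientEquiv (A.subgroupOf K) φ).1 : K → ℂ) = fun _ => 1
      · rw [Finset.mem_insert]; exact Or.inl h
      · refine Finset.mem_insert_of_mem ((Set.Finite.mem_toFinset _).2 ⟨(quotientEquiv _ φ).1.2, h, ?_⟩)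
        intro a ha
        exact (quotientEquiv _ φ).2 a ha
    · intro a _ b _ e
      exact (quotientEquiv _).injective (Subtype.ext (Subtype.ext e))
    · intro θ hθ
      have hθ' : IsIrrCharacter K θ ∧ ∀ a : K, a ∈ A.subgroupOf K → θ a = θ 1 := by
        rcases Finset.mem_insert.1 hθ with rfl | h
        · exact ⟨isIrrCharacter_one, fun _ _ => rfl⟩
        · exact ⟨((Set.Finite.mem_toFinset _).1 h).1, ((Set.Finite.mem_toFinset _).1 h).2.2⟩
      exact ⟨(quotientEquiv (A.subgroupOf K)).symm ⟨⟨θ, hθ'.1⟩, hθ'.2⟩, Finset.mem_univ _,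
        congrArg (fun x : {χ : IrrCharacter K // _} => (x.1 : K → ℂ))
          ((quotientEquiv (A.subgroupOf K)).apply_symm_apply ⟨⟨θ, hθ'.1⟩, hθ'.2⟩)⟩
    · intro φ _
      congr 1
      rw [← charDegree_spec (IsIrr.isCharacter (quotientEquiv (A.subgroupOf K) φ).1.2)]
      rfl
  rw [Finset.sum_insert (fun h => ((Set.Finite.mem_toFinset _).1 h).2.1 rfl)] at key
  have h1 : charDegree (fun _ : K => (1 : ℂ)) = 1 := by simp [charDegree]
  rw [h1, Nat.cast_one, one_pow, add_comm] at key
  exact_mod_cast key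

open scoped Classical in
/-- The sum `Σ φ(1)² / ‖φ‖²` over the family. -/
theorem sum_family [A.Normal] (hAK : A ≤ K) (d n : (L → ℂ) → ℕ)
    (hd : ∀ φ ∈ inducedIrrAbove K A, φ 1 = (d φ : ℂ))
    (hn : ∀ φ ∈ inducedIrrAbove K A, classInner φ φ = (n φ : ℂ)) :
    ∑ φ ∈ (inducedIrrAbove_finite (K := K) (A := A)).toFinset, ((d φ : ℝ) ^ 2 / (n φ : ℝ)) =
      (K.index : ℝ) * ((A.relIndex K : ℝ) - 1) := by
  rw [← sum_sq_above hAK]
  push_cast
  rw [add_sub_cancel_right, Finset.mul_sum,
    ← Finset.sum_fiberwise_of_maps_to (s := (above_finite (K := K) (A := A)).toFinset)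
      (t := (inducedIrrAbove_finite (K := K) (A := A)).toFinset) (g := indFun K)
      (fun θ hθ => (Set.Finite.mem_toFinset _).2
        (mem_inducedIrrAbove.2 ⟨θ, (Set.Finite.mem_toFinset _).1 hθ, rfl⟩))]
  refine Finset.sum_congr rfl fun φ hφ => ?_
  have hmem := (Set.Finite.mem_toFinset _).1 hφ
  obtain ⟨θ, hθ, rfl⟩ := mem_inducedIrrAbove.1 hmem
  have hfib : (above_finite (K := K) (A := A)).toFinset.filter (fun η => indFun K η = indFun K θ) =
      orbit (G := L) θ := by
    ext η
    rw [Finset.mem_filter, Set.Finite.mem_toFinset]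
    refine ⟨fun h => (indFun_eq_iff hθ.1 h.1.1).1 h.2.symm, fun h => ?_⟩
    have := above_orbit hθ h
    exact ⟨this, ((indFun_eq_iff hθ.1 this.1).2 h).symm⟩
  rw [hfib, Finset.sum_congr rfl fun η hη => show (K.index : ℝ) * (charDegree η : ℝ) ^ 2 =
      (K.index : ℝ) * (charDegree θ : ℝ) ^ 2 by
    obtain ⟨g, rfl⟩ := mem_orbit.1 hη
    simp [charDegree, conjFun_apply_one]]
  rw [Finset.sum_const, nsmul_eq_mul]
  have hd1 : (d (indFun K θ) : ℝ) = (K.index : ℝ) * (charDegree θ : ℝ) := by
    have h := hd _ hmem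
    rw [indFun_apply_one, charDegree_spec (IsIrr.isCharacter hθ.1)] at h
    exact_mod_cast h.symm
  have hn1 : (n (indFun K θ) : ℝ) * ((orbit (G := L) θ).card : ℝ) = (K.index : ℝ) := by
    have h := classInner_indFun_self hθ.1 (K := K)
    rw [hn _ hmem] at h
    exact_mod_cast h
  have hne : (n (indFun K θ) : ℝ) ≠ 0 := fun h => by
    rw [h, zero_mul] at hn1
    exact K.index_ne_zero_of_finite (by exact_mod_cast hn1.symm)
  rw [hd1, div_eq_iff hne]
  linear_combination (-(K.index : ℝ) * (charDegree θ : ℝ) ^ 2) * hn1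

/-- A nonprincipal linear character above `A`. -/
theorem exists_linear_above [A.Normal] (hsolv : Group.IsSolvable K) (hAK : A < K) :
    ∃ θ ∈ Above K A, θ 1 = 1 := by
  haveI := hsolv
  set Q := K ⧸ A.subgroupOf K
  have hsQ : Group.IsSolvable Q := Group.isSolvable_of_surjective (QuotientGroup.mk'_surjective _)
  have hne : Nontrivial Q := by
    refine QuotientGroup.nontrivial_iff.2 fun h => hAK.not_ge ?_
    exact Subgroup.subgroupOf_eq_top.1 h
  have hab : Nontrivial (Abelianization Q) := by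
    refine QuotientGroup.nontrivial_iff.2 fun h => ?_
    exact (Group.IsSolvable.commutator_lt_top_of_nontrivial Q).ne h
  obtain ⟨a, ha⟩ := exists_ne (1 : Abelianization Q)
  have : Finite (Abelianization Q) :=
    Finite.of_surjective (Abelianization.of (G := Q)) (QuotientGroup.mk'_surjective (commutator Q))
  have : NeZero (Monoid.exponent (Abelianization Q)) := ⟨Monoid.exponent_ne_zero_of_finite⟩
  have : HasEnoughRootsOfUnity ℂ (Monoid.exponent (Abelianization Q)) := inferInstance
  obtain ⟨f, hf⟩ := CommGroup.exists_apply_ne_one_of_hasEnoughRootsOfUnity (Abelianization Q) ℂ ha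
  set F : K →* ℂˣ := (f.comp Abelianization.of).comp (QuotientGroup.mk' (A.subgroupOf K))
  refine ⟨fun x => (F x : ℂ), ⟨isIrrCharacter_hom F, fun e => hf ?_, fun x hx => ?_⟩, by simp⟩
  · obtain ⟨q, rfl⟩ : ∃ q : Q, Abelianization.of q = a := QuotientGroup.mk'_surjective (commutator Q) a
    obtain ⟨x, rfl⟩ := QuotientGroup.mk'_surjective (A.subgroupOf K) q
    exact Units.ext (congrFun e x)
  · have : (QuotientGroup.mk' (A.subgroupOf K)) x = 1 := (QuotientGroup.eq_one_iff x).2 hx
    simp [F, MonoidHom.comp_apply, this]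

/-- The degree bound from a central section. -/
theorem degree_sq_le [B.Normal] {C D : Subgroup L} [C.Normal] [D.Normal] (hBD : B ≤ D)
    (hDC : D ≤ C) (hCK : C ≤ K) (hcent : ∀ x ∈ D, ∀ y ∈ C, x * y * x⁻¹ * y⁻¹ ∈ B) {θ : K → ℂ}
    (hθ : IsIrrCharacter K θ) (hker : ∀ a : K, (a : L) ∈ B → θ a = θ 1) :
    charDegree θ ^ 2 ≤ C.relIndex K ^ 2 * D.relIndex C := by
  classical
  obtain ⟨φ, hφ⟩ : ∃ φ : IrrCharacter (C.subgroupOf K),
      classInner (fun x : C.subgroupOf K => θ x) (φ : C.subgroupOf K → ℂ) ≠ 0 :=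
    exists_constituent_res hθ
  have hle : charDegree θ ≤ C.relIndex K * charDegree (φ : C.subgroupOf K → ℂ) := by
    have hind := isCharacter_indFun (C.subgroupOf K) (IsIrr.isCharacter φ.2)
    have hne : classInner (indFun (C.subgroupOf K) (φ : C.subgroupOf K → ℂ)) θ ≠ 0 := by
      rw [classInner_indFun_left _ _ (isClassFunction_of_isIrr hθ), ← classInner_conj_symm, map_ne_zero]
      exact hφ
    obtain ⟨k, hk⟩ := IsChar.degree (IsChar.sub_constituent hind hθ hne)
    rw [Pi.sub_apply, indFun_apply_one, charDegree_spec (IsIrr.isCharacter φ.2),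
      charDegree_spec (IsIrr.isCharacter hθ), sub_eq_iff_eq_add] at hk
    have : (C.subgroupOf K).index * charDegree (φ : C.subgroupOf K → ℂ) = k + charDegree θ := by
      exact_mod_cast hk
    show charDegree θ ≤ (C.subgroupOf K).index * _
    omega
  set N : Subgroup (C.subgroupOf K) := (B.subgroupOf K).subgroupOf (C.subgroupOf K)
  have hkerφ : ∀ x ∈ N, (φ : C.subgroupOf K → ℂ) x = (φ : C.subgroupOf K → ℂ) 1 := fun x hx =>
    IsChar.constituent_kernel (isCharacter_res _ (IsIrr.isCharacter hθ)) φ.2 hφ (by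
      simpa using hker (x : K) hx)
  have hφle : charDegree (φ : C.subgroupOf K → ℂ) ^ 2 ≤ D.relIndex C := by
    obtain ⟨ψ, hψ, hψe⟩ := IsIrr.exists_quotient N φ.2 hkerφ
    have h1 := card_center_mul_sq_le hψ
    have hdeg : charDegree ψ = charDegree (φ : C.subgroupOf K → ℂ) := by
      unfold charDegree
      rw [hψe 1]; rfl
    set Dq : Subgroup (C.subgroupOf K) := (D.subgroupOf K).subgroupOf (C.subgroupOf K)
    have hcen : Dq.map (QuotientGroup.mk' N) ≤ Subgroup.center _ := by
      rintro _ ⟨x, hx, rfl⟩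
      rw [Subgroup.mem_center_iff]
      intro q
      obtain ⟨y, rfl⟩ := QuotientGroup.mk'_surjective N q
      rw [← map_mul, ← map_mul]
      refine QuotientGroup.eq.2 ?_
      show (((y * x)⁻¹ * (x * y) : C.subgroupOf K) : K).1 ∈ B
      have h2 := hcent ((x : K) : L) hx ((y : K) : L) y.2
      have h3 := (inferInstance : B.Normal).conj_mem _ h2 (((y : K) : L) * ((x : K) : L))⁻¹
      simpa [mul_assoc] using h3
    have h2 := Subgroup.card_le_of_le hcen
    have hidx : Nat.card (C.subgroupOf K ⧸ N) = Nat.card (Dq.map (QuotientGroup.mk' N)) * D.relIndex C := by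
      have e : (Dq.map (QuotientGroup.mk' N)).index = D.relIndex C := by
        rw [Subgroup.index_map_eq _ (QuotientGroup.mk'_surjective N)
          (by rw [QuotientGroup.ker_mk']; exact fun x hx => hBD hx)]
        show (D.subgroupOf K).relIndex (C.subgroupOf K) = _
        exact Subgroup.relIndex_subgroupOf hCK
      rw [← e, Subgroup.card_mul_index]
    rw [hidx, hdeg] at h1
    exact Nat.le_of_mul_le_mul_left ((Nat.mul_le_mul_right _ h2).trans h1) Nat.card_pos
  calc charDegree θ ^ 2 ≤ (C.relIndex K * charDegree (φ : C.subgroupOf K → ℂ)) ^ 2 :=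
        Nat.pow_le_pow_left hle 2
    _ = C.relIndex K ^ 2 * charDegree (φ : C.subgroupOf K → ℂ) ^ 2 := mul_pow _ _ 2
    _ ≤ _ := Nat.mul_le_mul_left _ hφle

end Cfsg.Agent.OddChars
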