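import Cfsg.Agent.Coherence.Criteria
import Cfsg.Agent.Char.Gen

/-!
# Coherence of families of irreducible characters (Feit)

The variants of the coherence criteria which need no closure under complex conjugation.
-/

set_option autoImplicit false

namespace Cfsg.Agent.OddChars

open Cfsg.Agent

universe u v

variable {L : Type u} [Group L] [Fintype L] {G : Type v} [Group G] [Fintype G]
  {S : Set (L → ℂ)} {τ : (L → ℂ) → (G → ℂ)}

/-- An isometry on the combinations of irreducible characters vanishing at `1`. -/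
structure IrrIso (S : Set (L → ℂ)) (τ : (L → ℂ) → (G → ℂ)) : Prop where
  irr : ∀ χ ∈ S, IsIrrCharacter L χ
  iso : IsLinearIsometryOn (zspanOn S {1}ᶜ) τ
  map_one : ∀ α ∈ zspanOn S {1}ᶜ, τ α 1 = 0

theorem IrrIso.mono (h : IrrIso S τ) {T : Set (L → ℂ)} (hT : T ⊆ S) : IrrIso T τ :=
  ⟨fun χ hχ => h.irr χ (hT hχ), Coherence.IsLinearIsometryOn.mono h.iso (Coherence.zspanOn_mono hT),
    fun α hα => h.map_one α (Coherence.zspanOn_mono hT hα)⟩

/-- Cross multiplied differences vanish at `1`. -/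
theorem cross_mem (h : IrrIso S τ) {χ ψ : L → ℂ} (hχ : χ ∈ S) (hψ : ψ ∈ S) :
    ∃ a b : ℕ, 0 < a ∧ 0 < b ∧ χ 1 = a ∧ ψ 1 = b ∧
      (b : ℤ) • χ - (a : ℤ) • ψ ∈ zspanOn S {1}ᶜ := by
  obtain ⟨a, ha, ea⟩ := Char.IsIrr.degree (h.irr χ hχ)
  obtain ⟨b, hb, eb⟩ := Char.IsIrr.degree (h.irr ψ hψ)
  refine ⟨a, b, ha, hb, ea, eb, Coherence.mem_zspanOn_compl_one.2 ⟨Coherence.zspan_sub
    (Coherence.zspan_zsmul _ (Coherence.mem_zspan_of_mem hχ))
    (Coherence.zspan_zsmul _ (Coherence.mem_zspan_of_mem hψ)), ?_⟩⟩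
  simp [ea, eb, mul_comm]

theorem exists_ne_zero_of_two (h : IrrIso S τ) (h2 : ∃ χ ∈ S, ∃ ψ ∈ S, χ ≠ ψ) :
    ∃ α ∈ zspanOn S {1}ᶜ, α ≠ 0 := by
  obtain ⟨χ, hχ, ψ, hψ, hne⟩ := h2
  obtain ⟨a, b, ha, hb, -, -, hm⟩ := cross_mem h hχ hψ
  refine ⟨_, hm, fun e => ?_⟩
  have := congrArg (fun θ => classInner θ χ) e
  simp only [← Int.cast_smul_eq_zsmul ℂ, Char.classInner_sub_left, Char.classInner_smul_left,
    Char.classInner_zero_left, Char.classInner_irr_self (h.irr χ hχ),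
    Char.classInner_irr_ne (h.irr ψ hψ) (h.irr χ hχ) hne.symm, mul_zero, sub_zero, mul_one] at this
  norm_cast at this
  omega

/-- Coherence passes to subsets with two members. -/
theorem irr_coherent_subset (h : IrrIso S τ) {T : Set (L → ℂ)} (hT : T ⊆ S)
    (h2 : ∃ χ ∈ T, ∃ ψ ∈ T, χ ≠ ψ) (hcoh : IsCoherent S {1}ᶜ τ) : IsCoherent T {1}ᶜ τ := by
  obtain ⟨-, τ₁, hτ₁, hag⟩ := hcoh
  exact ⟨exists_ne_zero_of_two (h.mono hT) h2, τ₁,
    Coherence.IsLinearIsometryOn.mono hτ₁ (Coherence.zspan_mono hT),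
    fun α hα => hag α (Coherence.zspanOn_mono hT hα)⟩

/-- Coherence from the images of the members. -/
theorem coherent_of_images (h : IrrIso S τ) (h2 : ∃ χ ∈ S, ∃ ψ ∈ S, χ ≠ ψ)
    (f : (L → ℂ) → (G → ℂ)) (hgen : ∀ χ ∈ S, IsGeneralizedCharacter G (f χ))
    (hinner : ∀ χ ∈ S, ∀ φ ∈ S, classInner (f χ) (f φ) = classInner χ φ)
    (χ₁ : L → ℂ) (hχ₁ : χ₁ ∈ S)
    (hag : ∀ φ ∈ S, ∀ a b : ℕ, χ₁ 1 = a → φ 1 = b →
      τ ((a : ℤ) • φ - (b : ℤ) • χ₁) = (a : ℤ) • f φ - (b : ℤ) • f χ₁) :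
    ∃ τ₁ : (L → ℂ) → (G → ℂ), IsLinearIsometryOn (zspan S) τ₁ ∧
      (∀ α ∈ zspanOn S {1}ᶜ, τ₁ α = τ α) ∧ ∀ χ ∈ S, τ₁ χ = f χ := by
  classical
  have hfin := Coherence.irr_set_finite h.irr
  have hm : ∀ {φ : L → ℂ}, φ ∈ hfin.toFinset → φ ∈ S := fun hφ => hfin.mem_toFinset.1 hφ
  obtain ⟨τ₁, hτ₁, hval⟩ := Coherence.exists_isometry_of_basis (S := hfin.toFinset)
    (fun φ hφ ψ hψ hne => Char.classInner_irr_ne (h.irr φ (hm hφ)) (h.irr ψ (hm hψ)) hne)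
    (fun φ hφ e => Char.IsIrr.one_ne_zero (h.irr φ (hm hφ)) (by rw [e]; rfl)) f
    (fun φ hφ => hgen φ (hm hφ)) (fun φ hφ ψ hψ => hinner φ (hm hφ) ψ (hm hψ))
  rw [hfin.coe_toFinset] at hτ₁
  refine ⟨τ₁, hτ₁, fun α hα => ?_, fun χ hχ => hval χ (hfin.mem_toFinset.2 hχ)⟩
  obtain ⟨a, ha, ea⟩ := Char.IsIrr.degree (h.irr χ₁ hχ₁)
  choose! b hb eb using fun φ (hφ : φ ∈ S) => Char.IsIrr.degree (h.irr φ hφ)
  obtain ⟨n, hn⟩ := Coherence.zspan_finset (s := hfin.toFinset)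
    (by rw [hfin.coe_toFinset]; exact hα.1)
  have hz : ∀ φ ∈ hfin.toFinset,
      (a : ℤ) • φ - (b φ : ℤ) • χ₁ ∈ zspanOn S {1}ᶜ := fun φ hφ =>
    Coherence.mem_zspanOn_compl_one.2 ⟨Coherence.zspan_sub
      (Coherence.zspan_zsmul _ (Coherence.mem_zspan_of_mem (hm hφ)))
      (Coherence.zspan_zsmul _ (Coherence.mem_zspan_of_mem hχ₁)),
      by simp [ea, eb φ (hm hφ), mul_comm]⟩
  have hval' : ∀ φ ∈ hfin.toFinset,
      τ₁ ((a : ℤ) • φ - (b φ : ℤ) • χ₁) = τ ((a : ℤ) • φ - (b φ : ℤ) • χ₁) := fun φ hφ => by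
    have hzφ := Coherence.mem_zspan_of_mem (hm hφ)
    have hz₁ := Coherence.mem_zspan_of_mem hχ₁
    rw [hag φ (hm hφ) a (b φ) ea (eb φ (hm hφ)), Coherence.iso_zspan_sub hτ₁
      (Coherence.zspan_zsmul _ hzφ) (Coherence.zspan_zsmul _ hz₁), hτ₁.2.1 _ hzφ, hτ₁.2.1 _ hz₁,
      hval φ hφ, hval χ₁ (hfin.mem_toFinset.2 hχ₁)]
  have hsum0 : ∑ φ ∈ hfin.toFinset, n φ * (b φ : ℤ) = 0 := by
    have h1 := (Coherence.mem_zspanOn_compl_one.1 hα).2
    rw [hn, Finset.sum_apply, Finset.sum_congr rfl (g := fun φ => ((n φ * (b φ : ℤ) : ℤ) : ℂ))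
      (fun φ hφ => by simp [eb φ (hm hφ)])] at h1
    exact_mod_cast h1
  have hdec : (a : ℤ) • α = ∑ φ ∈ hfin.toFinset, n φ • ((a : ℤ) • φ - (b φ : ℤ) • χ₁) := by
    conv_lhs => rw [hn]
    simp only [smul_sub, Finset.sum_sub_distrib, smul_smul, ← Finset.sum_smul, hsum0, zero_smul,
      sub_zero, Finset.smul_sum, mul_comm (a : ℤ)]
  have h1 : τ₁ ((a : ℤ) • α) = τ ((a : ℤ) • α) := by
    rw [hdec, Coherence.iso_zspan_sum hτ₁ _ _ fun φ hφ => Coherence.zspan_zsmul _ (hz φ hφ).1,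
      (Coherence.iso_zspanOn_sum h.iso _ _ _ hz).1]
    exact Finset.sum_congr rfl fun φ hφ => by rw [hτ₁.2.1 _ (hz φ hφ).1, hval' φ hφ]
  rw [hτ₁.2.1 _ hα.1, h.iso.2.1 _ hα] at h1
  exact smul_right_injective (G → ℂ) (by omega : (a : ℤ) ≠ 0) h1

theorem isCoherent_of_images (h : IrrIso S τ) (h2 : ∃ χ ∈ S, ∃ ψ ∈ S, χ ≠ ψ)
    (f : (L → ℂ) → (G → ℂ)) (hgen : ∀ χ ∈ S, IsGeneralizedCharacter G (f χ))
    (hinner : ∀ χ ∈ S, ∀ φ ∈ S, classInner (f χ) (f φ) = classInner χ φ)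
    (χ₁ : L → ℂ) (hχ₁ : χ₁ ∈ S)
    (hag : ∀ φ ∈ S, ∀ a b : ℕ, χ₁ 1 = a → φ 1 = b →
      τ ((a : ℤ) • φ - (b : ℤ) • χ₁) = (a : ℤ) • f φ - (b : ℤ) • f χ₁) :
    IsCoherent S {1}ᶜ τ := by
  obtain ⟨τ₁, h1, h1', -⟩ := coherent_of_images h h2 f hgen hinner χ₁ hχ₁ hag
  exact ⟨exists_ne_zero_of_two h h2, τ₁, h1, h1'⟩

/-- Two irreducible characters of one degree: the extension can be turned round. -/
theorem exists_swap (h : IrrIso S τ) {a b : L → ℂ} (hab : a ≠ b) (hSab : S = {a, b})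
    (hdeg : a 1 = b 1) {τ₁ : (L → ℂ) → (G → ℂ)} (hτ₁ : IsLinearIsometryOn (zspan S) τ₁)
    (hag : ∀ α ∈ zspanOn S {1}ᶜ, τ₁ α = τ α) :
    ∃ τ₂ : (L → ℂ) → (G → ℂ), IsLinearIsometryOn (zspan S) τ₂ ∧
      (∀ α ∈ zspanOn S {1}ᶜ, τ₂ α = τ α) ∧ τ₂ a = -τ₁ b := by
  classical
  have ha : a ∈ S := by simp [hSab]
  have hb : b ∈ S := by simp [hSab]
  have hza := Coherence.mem_zspan_of_mem ha
  have hzb := Coherence.mem_zspan_of_mem hb
  obtain ⟨τ₂, h1, h2, h3⟩ := coherent_of_images h ⟨a, ha, b, hb, hab⟩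
    (fun χ => if χ = a then -τ₁ b else -τ₁ a)
    (fun χ _ => by split_ifs <;> exact Char.isGeneralized_neg (hτ₁.2.2.2 _ ‹_›))
    (fun χ hχ φ hφ => by
      rw [hSab] at hχ hφ
      have hab' := hab.symm
      rcases hχ with rfl | rfl <;> rcases hφ with rfl | rfl <;>
        simp [hab', Char.classInner_neg_left, Char.classInner_neg_right, hτ₁.2.2.1 _ hza _ hzb,
          hτ₁.2.2.1 _ hzb _ hza, hτ₁.2.2.1 _ hza _ hza, hτ₁.2.2.1 _ hzb _ hzb,
          Char.classInner_irr_self (h.irr _ ha), Char.classInner_irr_self (h.irr _ hb),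
          Char.classInner_irr_ne (h.irr _ ha) (h.irr _ hb) hab,
          Char.classInner_irr_ne (h.irr _ hb) (h.irr _ ha) hab'])
    a ha (fun φ hφ u v hu hv => by
      rw [hSab] at hφ
      have huv : (u : ℤ) = v := by
        rcases hφ with rfl | rfl
        · exact_mod_cast hu.symm.trans hv
        · exact_mod_cast (hu.symm.trans hdeg).trans hv
      rw [← huv]
      rcases hφ with rfl | rfl
      · simp [Coherence.iso_map_zero h.iso Coherence.zspanOn_zero]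
      · have hm : (u : ℤ) • φ - (u : ℤ) • a ∈ zspanOn S {1}ᶜ :=
          Coherence.mem_zspanOn_compl_one.2 ⟨Coherence.zspan_sub (Coherence.zspan_zsmul _ hzb)
            (Coherence.zspan_zsmul _ hza), by simp [hdeg]⟩
        rw [← hag _ hm, Coherence.iso_zspan_sub hτ₁ (Coherence.zspan_zsmul _ hzb)
          (Coherence.zspan_zsmul _ hza), hτ₁.2.1 _ hzb, hτ₁.2.1 _ hza, if_pos rfl,
          if_neg hab.symm, smul_neg, smul_neg]
        abel)
  exact ⟨τ₂, h1, h2, by rw [h3 a ha, if_pos rfl]⟩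

/-- **Feit**: at least two irreducible characters of one degree form a coherent family. -/
theorem irr_coherent_const_degree (h : IrrIso S τ) (h2 : ∃ χ ∈ S, ∃ ψ ∈ S, χ ≠ ψ)
    (hdeg : ∀ χ ∈ S, ∀ ψ ∈ S, χ 1 = ψ 1) : IsCoherent S {1}ᶜ τ := by
  classical
  obtain ⟨χ₁, hχ₁, ψ₁, hψ₁, hne₁⟩ := h2
  have hm : ∀ φ ∈ S, χ₁ - φ ∈ zspanOn S {1}ᶜ := fun φ hφ =>
    Coherence.mem_zspanOn_compl_one.2 ⟨Coherence.zspan_sub (Coherence.mem_zspan_of_mem hχ₁)
      (Coherence.mem_zspan_of_mem hφ), by simp [hdeg χ₁ hχ₁ φ hφ]⟩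
  have key : ∀ φ ∈ S, φ ≠ χ₁ → ∃ p : IrrCharacter G × IrrCharacter G, p.1 ≠ p.2 ∧
      τ (χ₁ - φ) = (p.1 : G → ℂ) - (p.2 : G → ℂ) := by
    intro φ hφ hne
    obtain ⟨μ, ν, hμν, he⟩ := Coherence.norm_two_decomp (h.iso.2.2.2 _ (hm φ hφ)) (by
      rw [h.iso.2.2.1 _ (hm φ hφ) _ (hm φ hφ)]
      simp [Char.classInner_sub_left, Char.classInner_sub_right,
        Char.classInner_irr_self (h.irr χ₁ hχ₁), Char.classInner_irr_self (h.irr φ hφ),
        Char.classInner_irr_ne (h.irr χ₁ hχ₁) (h.irr φ hφ) hne.symm,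
        Char.classInner_irr_ne (h.irr φ hφ) (h.irr χ₁ hχ₁) hne]
      norm_num) (h.map_one _ (hm φ hφ))
    exact ⟨(μ, ν), hμν, he⟩
  choose p hp1 hp2 using key
  have hirrne : ∀ μ ν : IrrCharacter G, classInner (μ : G → ℂ) (ν : G → ℂ) = if μ = ν then 1 else 0 :=
    Char.classInner_irrChar
  -- two differences share exactly one character, in the same place
  have hshare : ∀ φ (hφ : φ ∈ S) (h1 : φ ≠ χ₁) ψ (hψ : ψ ∈ S) (h1' : ψ ≠ χ₁), φ ≠ ψ →
      ((p φ hφ h1).1 = (p ψ hψ h1').1 ∧ (p φ hφ h1).2 ≠ (p ψ hψ h1').2 ∧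
          (p φ hφ h1).2 ≠ (p ψ hψ h1').1) ∨
        ((p φ hφ h1).1 ≠ (p ψ hψ h1').1 ∧ (p φ hφ h1).2 = (p ψ hψ h1').2 ∧
          (p φ hφ h1).1 ≠ (p ψ hψ h1').2) := by
    intro φ hφ h1 ψ hψ h1' hne
    have e := h.iso.2.2.1 _ (hm φ hφ) _ (hm ψ hψ)
    rw [hp2 φ hφ h1, hp2 ψ hψ h1'] at e
    simp only [Char.classInner_sub_left, Char.classInner_sub_right, hirrne,
      Char.classInner_irr_self (h.irr χ₁ hχ₁),
      Char.classInner_irr_ne (h.irr χ₁ hχ₁) (h.irr ψ hψ) h1'.symm,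
      Char.classInner_irr_ne (h.irr φ hφ) (h.irr χ₁ hχ₁) h1,
      Char.classInner_irr_ne (h.irr φ hφ) (h.irr ψ hψ) hne] at e
    have a1 := hp1 φ hφ h1
    have a2 := hp1 ψ hψ h1'
    generalize (p φ hφ h1).1 = a at e a1 ⊢
    generalize (p φ hφ h1).2 = b at e a1 ⊢
    generalize (p ψ hψ h1').1 = c at e a2 ⊢
    generalize (p ψ hψ h1').2 = d at e a2 ⊢
    rcases eq_or_ne a c with rfl | hac
    · by_cases hbd : b = d
      · subst hbd
        simp [a1, a1.symm] at e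
      · exact Or.inl ⟨rfl, hbd, a1.symm⟩
    · by_cases hbd : b = d
      · subst hbd
        exact Or.inr ⟨hac, rfl, a1⟩
      · exfalso
        split_ifs at e <;> norm_num at e <;> simp_all
  obtain ⟨F, f, hF, hfF, hff, hf⟩ : ∃ (F : G → ℂ) (f : (L → ℂ) → (G → ℂ)),
      f χ₁ = F ∧ (∀ φ ∈ S, IsGeneralizedCharacter G (f φ)) ∧
      (∀ φ ∈ S, ∀ ψ ∈ S, classInner (f φ) (f ψ) = classInner φ ψ) ∧
      ∀ φ ∈ S, τ (χ₁ - φ) = F - f φ := by
    set q := p ψ₁ hψ₁ hne₁.symm with hq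
    -- the shared place
    by_cases hfst : ∀ φ (hφ : φ ∈ S) (h1 : φ ≠ χ₁), (p φ hφ h1).1 = q.1
    · refine ⟨(q.1 : G → ℂ), fun φ => if hφ : φ ∈ S ∧ φ ≠ χ₁ then ((p φ hφ.1 hφ.2).2 : G → ℂ)
        else (q.1 : G → ℂ), by simp, fun φ hφ => by dsimp only; split_ifs <;> first
          | exact Char.isGeneralized_of_isCharacter (Char.IsIrr.isCharacter (Subtype.prop _))
          | exact Char.isGeneralized_neg (Char.isGeneralized_of_isCharacter (Char.IsIrr.isCharacter (Subtype.prop _))), fun φ hφ ψ hψ => ?_, fun φ hφ => ?_⟩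
      · rcases eq_or_ne φ χ₁ with rfl | h1 <;> rcases eq_or_ne ψ φ with rfl | h2
        · simp [Char.classInner_irr_self (h.irr _ hφ), hirrne]
        · simp only [ne_eq, not_true, and_false, dite_false, dif_pos (And.intro hψ h2), hirrne]
          rw [if_neg (fun e => hp1 ψ hψ h2 ((hfst ψ hψ h2).trans e)),
            Char.classInner_irr_ne (h.irr _ hφ) (h.irr _ hψ) h2.symm]
        · simp only [dif_pos (And.intro hφ h1), hirrne, if_true,
            Char.classInner_irr_self (h.irr _ hφ)]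
        · rw [Char.classInner_irr_ne (h.irr _ hφ) (h.irr _ hψ) h2.symm]
          rcases eq_or_ne ψ χ₁ with rfl | h3
          · simp only [ne_eq, not_true, and_false, dite_false, dif_pos (And.intro hφ h1), hirrne]
            rw [if_neg fun e => hp1 φ hφ h1 ((hfst φ hφ h1).trans e.symm)]
          · simp only [dif_pos (And.intro hφ h1), dif_pos (And.intro hψ h3), hirrne]
            rw [if_neg]
            rcases hshare φ hφ h1 ψ hψ h3 h2.symm with ⟨-, h4, -⟩ | ⟨h4, -, -⟩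
            · exact h4
            · exact absurd ((hfst φ hφ h1).trans (hfst ψ hψ h3).symm) h4
      · rcases eq_or_ne φ χ₁ with rfl | h1
        · simp [Coherence.iso_map_zero h.iso Coherence.zspanOn_zero]
        · simp only [dif_pos (And.intro hφ h1)]
          rw [hp2 φ hφ h1, hfst φ hφ h1]
    · push Not at hfst
      obtain ⟨φ₀, hφ₀, h₀, hne0⟩ := hfst
      have hsnd : ∀ φ (hφ : φ ∈ S) (h1 : φ ≠ χ₁), (p φ hφ h1).2 = q.2 := by
        have h00 : (p φ₀ hφ₀ h₀).2 = q.2 := by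
          rcases eq_or_ne φ₀ ψ₁ with rfl | hne2
          · rfl
          · rcases hshare φ₀ hφ₀ h₀ ψ₁ hψ₁ hne₁.symm hne2 with ⟨h4, -, -⟩ | ⟨-, h4, -⟩
            · exact absurd h4 hne0
            · exact h4
        intro φ hφ h1
        rcases eq_or_ne φ ψ₁ with rfl | hne2
        · rfl
        rcases hshare φ hφ h1 ψ₁ hψ₁ hne₁.symm hne2 with ⟨h4, h5, -⟩ | ⟨-, h4, -⟩
        · exfalso
          rcases eq_or_ne φ φ₀ with rfl | hne3
          · exact hne0 h4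
          rcases hshare φ hφ h1 φ₀ hφ₀ h₀ hne3 with ⟨h6, -, -⟩ | ⟨-, h6, -⟩
          · exact hne0 (h6.symm.trans h4)
          · exact h5 (h6.trans h00)
        · exact h4
      refine ⟨-(q.2 : G → ℂ), fun φ => if hφ : φ ∈ S ∧ φ ≠ χ₁ then -((p φ hφ.1 hφ.2).1 : G → ℂ)
        else -(q.2 : G → ℂ), by simp, fun φ hφ => by dsimp only; split_ifs <;> first
          | exact Char.isGeneralized_of_isCharacter (Char.IsIrr.isCharacter (Subtype.prop _))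
          | exact Char.isGeneralized_neg (Char.isGeneralized_of_isCharacter (Char.IsIrr.isCharacter (Subtype.prop _))), fun φ hφ ψ hψ => ?_, fun φ hφ => ?_⟩
      · rcases eq_or_ne φ χ₁ with rfl | h1 <;> rcases eq_or_ne ψ φ with rfl | h2
        · simp [Char.classInner_irr_self (h.irr _ hφ), hirrne, Char.classInner_neg_left,
            Char.classInner_neg_right]
        · simp only [ne_eq, not_true, and_false, dite_false, dif_pos (And.intro hψ h2),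
            Char.classInner_neg_left, Char.classInner_neg_right, neg_neg, hirrne]
          rw [if_neg (fun e => hp1 ψ hψ h2 (e.symm.trans (hsnd ψ hψ h2).symm)),
            Char.classInner_irr_ne (h.irr _ hφ) (h.irr _ hψ) h2.symm]
        · simp only [dif_pos (And.intro hφ h1), Char.classInner_neg_left,
            Char.classInner_neg_right, neg_neg, hirrne, if_true,
            Char.classInner_irr_self (h.irr _ hφ)]
        · rw [Char.classInner_irr_ne (h.irr _ hφ) (h.irr _ hψ) h2.symm]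
          rcases eq_or_ne ψ χ₁ with rfl | h3
          · simp only [ne_eq, not_true, and_false, dite_false, dif_pos (And.intro hφ h1),
              Char.classInner_neg_left, Char.classInner_neg_right, neg_neg, hirrne]
            rw [if_neg fun e => hp1 φ hφ h1 (e.trans (hsnd φ hφ h1).symm)]
          · simp only [dif_pos (And.intro hφ h1), dif_pos (And.intro hψ h3),
              Char.classInner_neg_left, Char.classInner_neg_right, neg_neg, hirrne]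
            rw [if_neg]
            rcases hshare φ hφ h1 ψ hψ h3 h2.symm with ⟨-, h4, -⟩ | ⟨h4, -, -⟩
            · exact absurd ((hsnd φ hφ h1).trans (hsnd ψ hψ h3).symm) h4
            · exact h4
      · rcases eq_or_ne φ χ₁ with rfl | h1
        · simp [Coherence.iso_map_zero h.iso Coherence.zspanOn_zero]
        · simp only [dif_pos (And.intro hφ h1)]
          rw [hp2 φ hφ h1, hsnd φ hφ h1]
          abel
  refine isCoherent_of_images h ⟨χ₁, hχ₁, ψ₁, hψ₁, hne₁⟩ f hfF hff χ₁ hχ₁ fun φ hφ a b ea eb => ?_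
  have hab : (a : ℤ) = b := by exact_mod_cast ea.symm.trans ((hdeg χ₁ hχ₁ φ hφ).trans eb)
  rw [← hab, ← smul_sub, ← smul_sub, show φ - χ₁ = (-1 : ℤ) • (χ₁ - φ) by simp, smul_smul,
    h.iso.2.1 _ (hm φ hφ), hf φ hφ, hF, mul_smul, neg_one_smul, neg_sub]

/-- **Feit's criterion**: adjoining one irreducible character. -/
theorem irr_coherent_insert (S₀ : Finset (L → ℂ)) (χ : L → ℂ) (hχS : χ ∉ S₀)
    (hI : IrrIso (↑(insert χ S₀) : Set (L → ℂ)) τ) (d : (L → ℂ) → ℕ)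
    (hd : ∀ ξ ∈ insert χ S₀, ξ 1 = (d ξ : ℂ))
    (hcoh : IsCoherent (↑S₀ : Set (L → ℂ)) {1}ᶜ τ) (ψ : L → ℂ) (hψ : ψ ∈ S₀)
    (hdvd : d ψ ∣ d χ) (hlt : 2 * d ψ * d χ < ∑ ξ ∈ S₀, d ξ ^ 2) :
    IsCoherent (↑(insert χ S₀) : Set (L → ℂ)) {1}ᶜ τ := by
  classical
  obtain ⟨hnz, τ₁, hτ₁, hagree⟩ := hcoh
  have hcoe : (↑(insert χ S₀) : Set (L → ℂ)) = insert χ (↑S₀ : Set (L → ℂ)) :=
    Finset.coe_insert _ _
  rw [hcoe] at hI ⊢
  have hτ := hI.iso
  have hτ1 := hI.map_one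
  have hirr' : ∀ ξ ∈ insert χ (↑S₀ : Set (L → ℂ)), Cfsg.IsIrrCharacter L ξ := by
    exact hI.irr
  obtain ⟨a, ha⟩ := hdvd
  have hχ := hirr' χ (Set.mem_insert _ _)
  have hirr : ∀ ξ ∈ S₀, Cfsg.IsIrrCharacter L ξ := fun ξ h => hirr' ξ (Set.mem_insert_of_mem _ h)
  have hdψ : d ψ ≠ 0 := fun h => Char.IsIrr.one_ne_zero (hirr ψ hψ)
    (by rw [hd ψ (Finset.mem_insert_of_mem hψ), h, Nat.cast_zero])
  have hdeg : χ 1 = (a : ℂ) * ψ 1 := by
    rw [hd χ (Finset.mem_insert_self χ S₀), hd ψ (Finset.mem_insert_of_mem hψ), ha]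
    push_cast; ring
  have hne : ∀ ξ ∈ insert χ (↑S₀ : Set (L → ℂ)), ξ ≠ 0 := fun ξ h e =>
    Char.IsIrr.one_ne_zero (hirr' ξ h) (by rw [e]; rfl)
  have horth : ∀ φ ∈ insert χ (↑S₀ : Set (L → ℂ)), ∀ η ∈ insert χ (↑S₀ : Set (L → ℂ)), φ ≠ η →
      Cfsg.classInner φ η = 0 :=
    fun φ hφ η hη h => Char.classInner_irr_ne (hirr' φ hφ) (hirr' η hη) h
  have hgen : ∀ ξ ∈ insert χ (↑S₀ : Set (L → ℂ)), Cfsg.IsGeneralizedCharacter L ξ :=
    fun ξ h => Char.isGeneralized_of_isCharacter (Char.IsIrr.isCharacter (hirr' ξ h))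
  obtain ⟨x, hform, hsumeq⟩ := Coherence.exists_shift S₀ χ ψ a hψ hχS horth hgen hτ hτ₁ hagree
    hdeg d (fun _ => 1) (fun φ h => hd φ (Finset.mem_insert_of_mem h))
    (fun φ h => by rw [Char.classInner_irr_self (hirr φ h), Nat.cast_one])
    (fun _ _ => one_ne_zero) hdψ
  set θ := χ - (a : ℂ) • ψ with hθ
  have hθm : θ ∈ Cfsg.zspanOn (insert χ (↑S₀ : Set (L → ℂ))) {1}ᶜ :=
    Coherence.mem_zspanOn_compl_one.2 ⟨Coherence.zspan_sub
      (Coherence.mem_zspan_of_mem (Set.mem_insert _ _))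
      (Coherence.zspan_natCast_smul _
        (Coherence.mem_zspan_of_mem (Set.mem_insert_of_mem _ hψ))), by simp [hθ, hdeg]⟩
  have hz : ∀ φ ∈ S₀, φ ∈ Cfsg.zspan (↑S₀ : Set (L → ℂ)) := fun φ h =>
    Coherence.mem_zspan_of_mem h
  have hself : ∀ φ ∈ S₀, Cfsg.classInner (τ₁ φ) (τ₁ φ) = 1 := fun φ h => by
    rw [hτ₁.2.2.1 _ (hz φ h) _ (hz φ h), Char.classInner_irr_self (hirr φ h)]
  have himne : ∀ φ ∈ S₀, τ₁ φ ≠ 0 := fun φ h e => by
    have := hself φ h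
    rw [e, Char.classInner_zero_left] at this
    exact zero_ne_one this
  have hb := Coherence.bessel S₀ τ₁ himne (fun φ hφ η hη h => by
    rw [hτ₁.2.2.1 _ (hz φ hφ) _ (hz η hη), Char.classInner_irr_ne (hirr φ hφ) (hirr η hη) h])
    (τ θ)
  have o1 : Cfsg.classInner χ ψ = 0 :=
    horth χ (Set.mem_insert _ _) ψ (Set.mem_insert_of_mem _ hψ) fun e => hχS (e ▸ hψ)
  have hnorm : (Cfsg.classInner θ θ).re = 1 + (a : ℝ) ^ 2 := by
    simp [hθ, Char.classInner_sub_left, Char.classInner_sub_right, Char.classInner_smul_left,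
      Char.classInner_smul_right, o1, Coherence.inner_eq_zero_comm o1,
      Char.classInner_irr_self hχ, Char.classInner_irr_self (hirr ψ hψ), pow_two]
  rw [hsumeq, hτ.2.2.1 _ hθm _ hθm, hnorm] at hb
  simp only [Nat.cast_one, mul_one, div_one] at hb
  have hreal : (2 * (d χ : ℝ) * d ψ) < ∑ ξ ∈ S₀, (d ξ : ℝ) ^ 2 := by
    have h : (((2 * d ψ * d χ : ℕ)) : ℝ) < ((∑ ξ ∈ S₀, d ξ ^ 2 : ℕ) : ℝ) := Nat.cast_lt.2 hlt
    push_cast at h
    linarith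
  have hx : x = 0 := by
    by_contra hx
    have hpos := Coherence.shift_pos (d := d χ) hdψ (by rw [ha, mul_comm]) hreal hx
    -- the excess is a positive integer at most one, so equality holds in Bessel's inequality
    choose! m hm using fun φ (h : φ ∈ S₀) => Char.classInner_generalized_int
      (hτ.2.2.2 _ hθm) (hτ₁.2.2.2 _ (hz φ h))
    have hint : ∑ φ ∈ S₀, ‖Cfsg.classInner (τ θ) (τ₁ φ)‖ ^ 2 /
        (Cfsg.classInner (τ₁ φ) (τ₁ φ)).re = ((∑ φ ∈ S₀, m φ ^ 2 : ℤ) : ℝ) := by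
      rw [Int.cast_sum]
      refine Finset.sum_congr rfl fun φ hφ => ?_
      rw [hm φ hφ, hself φ hφ, Complex.one_re, div_one, Coherence.norm_intCast_sq, Int.cast_pow]
    simp only [hsumeq, Nat.cast_one, mul_one, div_one] at hint
    have hlo : (a : ℤ) ^ 2 < ∑ φ ∈ S₀, m φ ^ 2 := by
      have : ((a : ℝ)) ^ 2 < ((∑ φ ∈ S₀, m φ ^ 2 : ℤ) : ℝ) := by linarith
      exact_mod_cast this
    have heq : (a : ℝ) ^ 2 - 2 * a * x + (x : ℝ) ^ 2 * (∑ ξ ∈ S₀, (d ξ : ℝ) ^ 2) /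
        (d ψ : ℝ) ^ 2 = 1 + (a : ℝ) ^ 2 := by
      refine le_antisymm hb.1 ?_
      rw [hint]
      have h' : (((a : ℤ) ^ 2 + 1 : ℤ) : ℝ) ≤ ((∑ φ ∈ S₀, m φ ^ 2 : ℤ) : ℝ) :=
        Int.cast_le.2 hlo
      push_cast at h' ⊢
      linarith
    have hβ := congrFun (hb.2 heq) 1
    have hτψ := (show Coherence.SIrr G (τ₁ ψ) from by
      obtain ⟨μ, e | e⟩ := Char.IsGen.eq_pm_irr (hτ₁.2.2.2 _ (hz ψ hψ)) (hself ψ hψ)
      · exact Or.inl (e ▸ μ.2)
      · exact Or.inr (by rw [e, neg_neg]; exact μ.2)).apply_one_ne_zero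
    have hone : ∀ φ ∈ S₀, (d ψ : ℂ) * τ₁ φ 1 = (d φ : ℂ) * τ₁ ψ 1 := by
      intro φ hφ
      have hγ : (d ψ : ℂ) • φ - (d φ : ℂ) • ψ ∈ Cfsg.zspanOn (↑S₀ : Set (L → ℂ)) {1}ᶜ :=
        Coherence.mem_zspanOn_compl_one.2 ⟨Coherence.zspan_sub
          (Coherence.zspan_natCast_smul _ (hz φ hφ)) (Coherence.zspan_natCast_smul _ (hz ψ hψ)),
          by simp [hd φ (Finset.mem_insert_of_mem hφ), hd ψ (Finset.mem_insert_of_mem hψ),
            mul_comm]⟩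
      have h0 := hτ1 _ (Coherence.zspanOn_mono (Set.subset_insert _ _) hγ)
      rw [← hagree _ hγ, Coherence.iso_zspan_sub hτ₁ (Coherence.zspan_natCast_smul _ (hz φ hφ))
        (Coherence.zspan_natCast_smul _ (hz ψ hψ)), Coherence.iso_zspan_natCast hτ₁ _ (hz φ hφ),
        Coherence.iso_zspan_natCast hτ₁ _ (hz ψ hψ)] at h0
      simpa [sub_eq_zero] using h0
    rw [hτ1 _ hθm, Finset.sum_apply] at hβ
    have hd' : (d ψ : ℂ) ≠ 0 := Nat.cast_ne_zero.2 hdψ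
    have hterm : ∀ φ ∈ S₀, ((Cfsg.classInner (τ θ) (τ₁ φ) /
        Cfsg.classInner (τ₁ φ) (τ₁ φ)) • τ₁ φ) 1 =
        τ₁ ψ 1 * ((x : ℂ) / (d ψ : ℂ) ^ 2 * (d φ : ℂ) ^ 2 -
          if φ = ψ then (a : ℂ) else 0) := by
      intro φ hφ
      have h1 : τ₁ φ 1 = (d φ : ℂ) * τ₁ ψ 1 / (d ψ : ℂ) := by
        rw [eq_div_iff hd', mul_comm]; exact hone φ hφ
      rw [Pi.smul_apply, smul_eq_mul, hself φ hφ, div_one, hform φ hφ, hθ,
        Char.classInner_sub_left, Char.classInner_smul_left,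
        horth χ (Set.mem_insert _ _) φ (Set.mem_insert_of_mem _ hφ) (fun e => hχS (e ▸ hφ)),
        Char.classInner_irr (hirr ψ hψ) (hirr φ hφ)]
      rcases eq_or_ne φ ψ with rfl | hne'
      · rw [if_pos rfl, if_pos rfl]; push_cast; field_simp; ring
      · rw [if_neg hne'.symm, if_neg hne', h1]; push_cast; field_simp; ring
    rw [Finset.sum_congr rfl hterm, ← Finset.mul_sum, Finset.sum_sub_distrib, ← Finset.mul_sum,
      Finset.sum_ite_eq', if_pos hψ] at hβ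
    have h2 := (mul_eq_zero.1 hβ.symm).resolve_left hτψ
    have h3 : ((x * ∑ φ ∈ S₀, (d φ : ℤ) ^ 2 : ℤ) : ℂ) = (((a : ℤ) * (d ψ : ℤ) ^ 2 : ℤ) : ℂ) := by
      push_cast
      have h4 := sub_eq_zero.1 h2
      field_simp at h4
      linear_combination h4
    have h4 : x * ∑ φ ∈ S₀, (d φ : ℤ) ^ 2 = (a : ℤ) * (d ψ : ℤ) ^ 2 := by exact_mod_cast h3
    have h5 : (2 * d ψ * d χ : ℤ) < ∑ φ ∈ S₀, (d φ : ℤ) ^ 2 := by exact_mod_cast hlt
    rw [ha] at h5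
    push_cast at h5
    have h6 : (0 : ℤ) ≤ (a : ℤ) * (d ψ : ℤ) ^ 2 := by positivity
    rcases lt_or_gt_of_ne hx with hlt' | hgt
    · nlinarith
    · nlinarith
  subst hx
  obtain ⟨τ₂, hτ₂, hagree₂, -, -⟩ := Coherence.coherent_insert S₀ χ ψ a hψ hχS horth hne hgen
    hτ hτ₁ hagree hdeg (fun φ hφ => by rw [← hθ, hform φ hφ]; simp)
  obtain ⟨γ, hγ, hγ0⟩ := hnz
  exact ⟨⟨γ, Coherence.zspanOn_mono (Set.subset_insert _ _) hγ, hγ0⟩, τ₂, hτ₂, hagree₂⟩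


/-- Adjoining any number of irreducible characters of small degree. -/
theorem irr_coherent_absorb (hI : IrrIso S τ) (d : (L → ℂ) → ℕ) (hd : ∀ ξ ∈ S, ξ 1 = (d ξ : ℂ))
    (T : Finset (L → ℂ)) (hT : ↑T ⊆ S) (hcoh : IsCoherent (↑T : Set (L → ℂ)) {1}ᶜ τ)
    (ψ : L → ℂ) (hψ : ψ ∈ T)
    (U : Finset (L → ℂ)) (hU : ↑U ⊆ S)
    (hsmall : ∀ χ ∈ U, χ ∉ T → d ψ ∣ d χ ∧ 2 * d ψ * d χ < ∑ ξ ∈ T, d ξ ^ 2) :
    ∃ T' : Finset (L → ℂ), T ⊆ T' ∧ U ⊆ T' ∧ ↑T' ⊆ S ∧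
      IsCoherent (↑T' : Set (L → ℂ)) {1}ᶜ τ := by
  classical
  induction U using Finset.induction with
  | empty => exact ⟨T, le_rfl, by simp, hT, hcoh⟩
  | @insert χ U _ ih =>
    rw [Finset.coe_insert, Set.insert_subset_iff] at hU
    obtain ⟨T', hTT', hUT', hT'S, hcoh'⟩ :=
      ih hU.2 fun φ hφ => hsmall φ (Finset.mem_insert_of_mem hφ)
    by_cases hχ : χ ∈ T'
    · exact ⟨T', hTT', Finset.insert_subset hχ hUT', hT'S, hcoh'⟩
    obtain ⟨hdvd, hlt⟩ := hsmall χ (Finset.mem_insert_self _ _) fun h => hχ (hTT' h)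
    have hsub : (↑(insert χ T') : Set (L → ℂ)) ⊆ S := by
      rw [Finset.coe_insert]; exact Set.insert_subset hU.1 hT'S
    refine ⟨insert χ T', hTT'.trans (Finset.subset_insert _ _),
      Finset.insert_subset_insert _ hUT', hsub, ?_⟩
    exact irr_coherent_insert T' χ hχ (hI.mono hsub) d (fun ξ hξ => hd ξ (hsub hξ)) hcoh' ψ
      (hTT' hψ) hdvd (hlt.trans_le (Finset.sum_le_sum_of_subset hTT'))

end Cfsg.Agent.OddChars
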