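import Cfsg.Agent.OddChars.NilpotentSection

/-!
# Peterfalvi (6.5): coherence for the characters above a subgroup of a Frobenius kernel
-/

set_option autoImplicit false

namespace Cfsg.Agent.OddChars

open Subgroup
open scoped commutatorElement

universe u v

variable {L : Type u} [Group L] [Fintype L] {K H₁ : Subgroup L}

/-- In a Frobenius section the complement order divides `[N : H₁] - 1`. -/
theorem index_dvd_relIndex_sub_one [K.Normal] [H₁.Normal] (hcomm : ⁅K, K⁆ ≤ H₁) (hH₁K : H₁ ≤ K)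
    (hfrob : ∀ k ∈ K, k ∉ H₁ → ∀ x : L, x * k * x⁻¹ * k⁻¹ ∈ H₁ → x ∈ K)
    {N : Subgroup L} [N.Normal] (hHN : H₁ ≤ N) (hNK : N ≤ K) :
    K.index ∣ H₁.relIndex N - 1 := by
  classical
  set q := QuotientGroup.mk' H₁ with hq
  have hsurj := QuotientGroup.mk'_surjective H₁
  have := Fintype.ofFinite (L ⧸ H₁)
  haveI hNn : (N.map q).Normal := Normal.map inferInstance q hsurj
  have hker : q.ker = H₁ := QuotientGroup.ker_mk' H₁
  have hcent : ∀ x ∈ N.map q, x ≠ 1 → centralizer ({x} : Set (L ⧸ H₁)) = K.map q := by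
    rintro _ ⟨n, hn, rfl⟩ h1
    have hnH : n ∉ H₁ := fun h => h1 (by rwa [← MonoidHom.mem_ker, hker])
    refine le_antisymm (fun y hy => ?_) ?_
    · obtain ⟨x, rfl⟩ := hsurj y
      refine mem_map_of_mem q (hfrob n (hNK hn) hnH x ?_)
      have h := mem_centralizer_singleton_iff.1 hy
      rw [← hker, MonoidHom.mem_ker, map_mul, map_mul, map_mul, map_inv, map_inv,
        show q x * q n = q n * q x from h, mul_inv_cancel_right, mul_inv_cancel]
    · rintro _ ⟨k, hk, rfl⟩
      rw [mem_centralizer_singleton_iff, ← commutatorElement_eq_one_iff_mul_comm,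
        ← map_commutatorElement, ← MonoidHom.mem_ker, hker]
      exact hcomm (commutator_mem_commutator hk (hNK hn))
  have hidx : (K.map q).index = K.index := Subgroup.index_map_eq _ hsurj (hker.le.trans hH₁K)
  set s := Finset.univ.filter (fun x : L ⧸ H₁ => x ∈ N.map q ∧ x ≠ 1) with hs
  have hfib : ∀ c ∈ s.image ConjClasses.mk,
      (s.filter (fun x => ConjClasses.mk x = c)).card = K.index := by
    intro c hc
    obtain ⟨x, hx, rfl⟩ := Finset.mem_image.1 hc
    obtain ⟨hxN, hx1⟩ := (Finset.mem_filter.1 hx).2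
    rw [← hidx, ← hcent x hxN hx1, ← Char.card_isConj_eq_index x, Nat.card_eq_fintype_card,
      Fintype.card_subtype]
    congr 1
    ext y
    simp only [hs, Finset.mem_filter, Finset.mem_univ, true_and, ConjClasses.mk_eq_mk_iff_isConj]
    constructor
    · exact fun h => h.2.symm
    · intro h
      obtain ⟨g, hg⟩ := isConj_iff.1 h
      exact ⟨⟨hg ▸ hNn.conj_mem x hxN g, fun e => hx1 (by
        rw [e] at h; exact isConj_one_left.1 h)⟩, h.symm⟩
  have hcard : s.card = H₁.relIndex N - 1 := by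
    have h1 : Nat.card (N.map q) = H₁.relIndex N := by rw [← relIndex_ker, hker]
    have h2 : s = (Finset.univ.filter (fun x : L ⧸ H₁ => x ∈ N.map q)).erase 1 := by
      ext x; simp [hs, and_comm]
    rw [h2, Finset.card_erase_of_mem (by simpa using ⟨1, N.one_mem, map_one q⟩), ← h1, Nat.card_eq_fintype_card, Fintype.card_subtype]
  rw [← hcard, Finset.card_eq_sum_card_image ConjClasses.mk s, Finset.sum_congr rfl hfib]
  simp

theorem big_of_factors {e a b : ℕ} (he : Odd e) (ha : Odd a) (hb : Odd b) (ha1 : 1 < a)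
    (hb1 : 1 < b) (hda : e ∣ a - 1) (hdb : e ∣ b - 1) : 4 * e ^ 2 + 1 < a * b := by
  have key : ∀ a, Odd a → 1 < a → e ∣ a - 1 → 2 * e + 1 ≤ a := by
    intro a ha ha1 hd
    obtain ⟨k, hk⟩ := hd
    obtain ⟨m, hm⟩ := ha
    obtain ⟨l, hl⟩ := he
    rcases k with _ | _ | k
    · omega
    · omega
    · have : e * 2 ≤ e * (k + 1 + 1) := Nat.mul_le_mul_left e (by omega)
      omega
  have he1 : 1 ≤ e := by obtain ⟨l, hl⟩ := he; omega
  calc 4 * e ^ 2 + 1 < (2 * e + 1) * (2 * e + 1) := by ring_nf; omega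
    _ ≤ a * b := Nat.mul_le_mul (key a ha ha1 hda) (key b hb hb1 hdb)

/-- A nilpotent group whose abelianisation is a `p`-group is a `p`-group. -/
theorem isPGroup_of_index_commutator {Q : Type u} [Group Q] [Finite Q] [Group.IsNilpotent Q]
    {p j : ℕ} [hp : Fact p.Prime] (h : (commutator Q).index = p ^ j) : IsPGroup p Q := by
  obtain ⟨P⟩ : Nonempty (Sylow p Q) := inferInstance
  have h1 : (P : Subgroup Q) ⊔ commutator Q = ⊤ := by
    rw [← index_eq_one]
    have h2 : ((P : Subgroup Q) ⊔ commutator Q).index ∣ p ^ j := h ▸ index_dvd_of_le le_sup_right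
    obtain ⟨i, -, hi⟩ := (Nat.dvd_prime_pow hp.out).1 h2
    rcases i with _ | i
    · simpa using hi
    · exact absurd ((dvd_pow_self p i.succ_ne_zero).trans
        (hi ▸ index_dvd_of_le le_sup_left)) P.not_dvd_index
  have h3 : (P : Subgroup Q) ⊔ frattini Q = ⊤ :=
    top_le_iff.1 (h1 ▸ sup_le_sup_left Core.commutator_le_frattini _)
  have h4 : (P : Subgroup Q) = ⊤ := frattini_nongenerating h3
  exact (h4 ▸ P.2 : IsPGroup p (⊤ : Subgroup Q)).of_equiv topEquiv

theorem isMulCommutative_of_cyclic_index {Q : Type u} [Group Q] [Finite Q] [Group.IsNilpotent Q]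
    [IsCyclic (Q ⧸ commutator Q)] : ⁅(⊤ : Subgroup Q), (⊤ : Subgroup Q)⁆ = (⊥ : Subgroup Q) := by
  obtain ⟨g, hg⟩ := IsCyclic.exists_generator (α := Q ⧸ commutator Q)
  obtain ⟨x, rfl⟩ := QuotientGroup.mk'_surjective (commutator Q) g
  have h1 : zpowers x ⊔ commutator Q = ⊤ := by
    rw [eq_top_iff]
    intro y _
    obtain ⟨n, hn⟩ := mem_zpowers_iff.1 (hg (QuotientGroup.mk' (commutator Q) y))
    have h2 : (x ^ n)⁻¹ * y ∈ commutator Q := by
      rw [← QuotientGroup.eq_one_iff, ← QuotientGroup.mk'_apply, map_mul, map_inv, map_zpow, hn,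
        inv_mul_cancel]
    simpa using mul_mem_sup (zpow_mem (mem_zpowers x) n) h2
  have h3 : zpowers x = ⊤ := frattini_nongenerating
    (top_le_iff.1 (h1 ▸ sup_le_sup_left Core.commutator_le_frattini _))
  rw [eq_bot_iff, commutator_le]
  intro a _ b _
  obtain ⟨m, rfl⟩ := mem_zpowers_iff.1 (h3 ▸ mem_top a : a ∈ zpowers x)
  obtain ⟨n, rfl⟩ := mem_zpowers_iff.1 (h3 ▸ mem_top b : b ∈ zpowers x)
  rw [mem_bot, commutatorElement_eq_one_iff_mul_comm]
  exact (Commute.zpow_zpow_self x m n).eq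

variable {G : Type v} [Group G] [Fintype G] {τ : (L → ℂ) → (G → ℂ)}
  {R : (L → ℂ) → Finset (G → ℂ)}

/-- The linear characters form a coherent family. -/
theorem coherent_above_derived [K.Normal] [H₁.Normal] (hsolv : Group.IsSolvable K)
    (hS : IsCoherenceSystem (inducedIrrAbove K ⊥) τ R) (hcomm : ⁅K, K⁆ ≤ H₁) (hlt : H₁ < K) :
    IsCoherent (inducedIrrAbove K H₁) {1}ᶜ τ := by
  obtain ⟨θ₁, hθ₁, -⟩ := exists_linear_above (A := H₁) hsolv hlt
  refine S1517.result _ τ R (system_subset hS inducedIrrAbove_subset_bot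
    ⟨_, mem_inducedIrrAbove.2 ⟨θ₁, hθ₁, rfl⟩⟩ fun φ => inducedIrrAbove_conj_mem) ?_
  have hdeg : ∀ φ ∈ inducedIrrAbove K H₁, φ 1 = (K.index : ℂ) := by
    intro φ hφ
    obtain ⟨θ, ⟨hθ, -, hker⟩, rfl⟩ := mem_inducedIrrAbove.1 hφ
    obtain ⟨ψ, hψ, hψe⟩ := Char.IsIrr.exists_quotient (H₁.subgroupOf K) hθ (fun n hn => hker n hn)
    have : IsMulCommutative (↥K ⧸ H₁.subgroupOf K) := ⟨⟨fun a b => by
      obtain ⟨a, rfl⟩ := QuotientGroup.mk'_surjective (H₁.subgroupOf K) a
      obtain ⟨b, rfl⟩ := QuotientGroup.mk'_surjective (H₁.subgroupOf K) b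
      rw [← commutatorElement_eq_one_iff_mul_comm, ← map_commutatorElement]
      exact (QuotientGroup.eq_one_iff _).2 (hcomm (commutator_mem_commutator a.2 b.2))⟩⟩
    rw [Char.indFun_apply_one, hψe 1]
    show (K.index : ℂ) * ψ 1 = K.index
    rw [Char.IsIrr.degree_one_of_isMulCommutative hψ, mul_one]
  intro φ hφ ψ hψ
  rw [hdeg φ hφ, hdeg ψ hψ]

/-- Peterfalvi (6.5). -/
theorem coherence_of_kernel [K.Normal] (hsolv : Group.IsSolvable K)
    (hS : IsCoherenceSystem (inducedIrrAbove K ⊥) τ R) (hodd : Odd (Nat.card L)) (M : Subgroup L)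
    [M.Normal] (hMK : M ≤ K) [(M.subgroupOf K).Normal]
    (hnil : Group.IsNilpotent (↥K ⧸ M.subgroupOf K)) (hH₁ : H₁ = ⁅K, K⁆ ⊔ M) (hH₁K : H₁ < K)
    (hKL : K < ⊤)
    (hfrob : ∀ k ∈ K, k ∉ H₁ → ∀ x : L, x * k * x⁻¹ * k⁻¹ ∈ H₁ → x ∈ K)
    (hgood : (∃ N : Subgroup L, N.Normal ∧ H₁ < N ∧ N < K) ∨ 4 * K.index ^ 2 + 1 < H₁.relIndex K ∨
      (¬ ∃ p m : ℕ, p.Prime ∧ M.relIndex K = p ^ m) ∨ ⁅K, K⁆ ≤ M ∨
      (∃ p m : ℕ, p.Prime ∧ M.relIndex K = p ^ m ∧ K.index ∣ p - 1)) :
    IsCoherent (inducedIrrAbove K M) {1}ᶜ τ := by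
  classical
  have : H₁.Normal := hH₁ ▸ inferInstance
  have hcomm : ⁅K, K⁆ ≤ H₁ := hH₁ ▸ le_sup_left
  have hMH₁ : M ≤ H₁ := hH₁ ▸ le_sup_right
  have hbase := coherent_above_derived (K := K) (H₁ := H₁) hsolv hS hcomm hH₁K
  have hodd' : ∀ {a : ℕ}, a ∣ Nat.card L → Odd a := fun h => hodd.of_dvd_nat h
  have hodde : Odd K.index := hodd' K.index_dvd_card
  have hab : ⁅K, K⁆ ≤ M → IsCoherent (inducedIrrAbove K M) {1}ᶜ τ := fun h => by
    have : H₁ = M := by rw [hH₁, sup_eq_right]; exact h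
    exact this ▸ hbase
  have hbig : 4 * K.index ^ 2 + 1 < H₁.relIndex K → IsCoherent (inducedIrrAbove K M) {1}ᶜ τ :=
    fun h => coherence_nilpotent_section K hsolv hS M H₁ K hMH₁ hH₁K.le le_rfl hnil hbase h
  have hrel : ∀ {A B : Subgroup L}, Odd (A.relIndex B) := fun {A B} =>
    hodd' ((relIndex_dvd_card A B).trans (Subgroup.card_subgroup_dvd_card B))
  have hmid : (∃ N : Subgroup L, N.Normal ∧ H₁ < N ∧ N < K) → 4 * K.index ^ 2 + 1 < H₁.relIndex K := by
    rintro ⟨N, hN, h1, h2⟩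
    have hd1 := index_dvd_relIndex_sub_one hcomm hH₁K.le hfrob h1.le h2.le
    have hd := index_dvd_relIndex_sub_one hcomm hH₁K.le hfrob hH₁K.le le_rfl
    rw [← relIndex_mul_relIndex H₁ N K h1.le h2.le] at hd ⊢
    have ha1 : 1 < H₁.relIndex N := Nat.one_lt_iff_ne_zero_and_ne_one.2
      ⟨Subgroup.index_ne_zero_of_finite (H := H₁.subgroupOf N), fun h => h1.not_ge (relIndex_eq_one.1 h)⟩
    have hb1 : 1 < N.relIndex K := Nat.one_lt_iff_ne_zero_and_ne_one.2
      ⟨Subgroup.index_ne_zero_of_finite (H := N.subgroupOf K), fun h => h2.not_ge (relIndex_eq_one.1 h)⟩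
    refine big_of_factors hodde hrel hrel ha1 hb1 hd1 ?_
    have h3 : (H₁.relIndex N * N.relIndex K - 1) = (H₁.relIndex N - 1) * N.relIndex K + (N.relIndex K - 1) := by
      rw [Nat.sub_one_mul]
      have : N.relIndex K ≤ H₁.relIndex N * N.relIndex K := Nat.le_mul_of_pos_left _ (by omega)
      omega
    rw [h3] at hd
    exact (Nat.dvd_add_right (hd1.mul_right _)).1 hd
  -- the abelianisation of `K / M`
  set q := QuotientGroup.mk' (M.subgroupOf K) with hq
  have hcomQ : (H₁.subgroupOf K).map q = commutator (↥K ⧸ M.subgroupOf K) := by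
    have e : H₁.subgroupOf K = commutator K ⊔ M.subgroupOf K := by
      apply map_injective K.subtype_injective
      rw [Subgroup.map_sup, map_subgroupOf_eq_of_le hH₁K.le, map_subgroupOf_eq_of_le hMK,
        map_subtype_commutator, hH₁]
    rw [e, Subgroup.map_sup, show (M.subgroupOf K).map q = ⊥ by
      rw [Subgroup.map_eq_bot_iff, hq, QuotientGroup.ker_mk'], sup_bot_eq, _root_.commutator_def,
      map_commutator, map_top_of_surjective q (QuotientGroup.mk'_surjective _), _root_.commutator_def]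
  have hindex : (commutator (↥K ⧸ M.subgroupOf K)).index = H₁.relIndex K := by
    rw [← hcomQ, Subgroup.index_map_eq _ (QuotientGroup.mk'_surjective _) (by
      rw [QuotientGroup.ker_mk']; exact fun x hx => hMH₁ hx)]
    rfl
  have hnp : (¬ ∃ p m : ℕ, p.Prime ∧ M.relIndex K = p ^ m) → ∃ N : Subgroup L, N.Normal ∧ H₁ < N ∧ N < K := by
    intro hnot
    set n := H₁.relIndex K with hn
    have hn1 : n ≠ 1 := fun h => hH₁K.not_ge (relIndex_eq_one.1 h)
    obtain ⟨p, hp, hpn⟩ := Nat.exists_prime_and_dvd hn1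
    have := Fact.mk hp
    set a := p ^ n.factorization p with ha
    -- the `p`-part of `K / H₁`
    set qL := QuotientGroup.mk' H₁ with hqL
    have hKab : ∀ x ∈ K, ∀ y ∈ K, Commute (qL x) (qL y) := fun x hx y hy =>
      commutatorElement_eq_one_iff_mul_comm.1 (by
        rw [← map_commutatorElement]; exact (QuotientGroup.eq_one_iff _).2
          (hcomm (commutator_mem_commutator hx hy)))
    let N : Subgroup L :=
      { carrier := {x | x ∈ K ∧ qL x ^ a = 1}
        one_mem' := ⟨one_mem _, by simp⟩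
        mul_mem' := fun {x y} hx hy => ⟨mul_mem hx.1 hy.1, by
          rw [map_mul, (hKab x hx.1 y hy.1).mul_pow, hx.2, hy.2, one_mul]⟩
        inv_mem' := fun {x} hx => ⟨inv_mem hx.1, by rw [map_inv, inv_pow, hx.2, inv_one]⟩ }
    have hNK : N ≤ K := fun x hx => hx.1
    have hHN : H₁ ≤ N := fun x hx => ⟨hH₁K.le hx, by
      rw [show qL x = 1 from (QuotientGroup.eq_one_iff x).2 hx, one_pow]⟩
    have hNn : N.Normal := ⟨fun x hx g => ⟨(inferInstance : K.Normal).conj_mem x hx.1 g, by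
      rw [map_mul, map_mul, map_inv, conj_pow, hx.2, mul_one, mul_inv_cancel]⟩⟩
    have hcard : Nat.card (K.map qL) = n := by rw [← relIndex_ker, QuotientGroup.ker_mk']
    refine ⟨N, hNn, lt_of_le_of_ne hHN fun e => ?_, lt_of_le_of_ne hNK fun e => ?_⟩
    · -- an element of order `p`
      obtain ⟨z, hz⟩ := exists_prime_orderOf_dvd_card' p (hcard.symm ▸ hpn : p ∣ Nat.card (K.map qL))
      obtain ⟨x, hxK, hx⟩ := z.2
      have hxN : x ∈ N := ⟨hxK, by
        rw [hx, ← orderOf_dvd_iff_pow_eq_one, orderOf_coe, hz]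
        exact dvd_pow_self p (hp.factorization_pos_of_dvd Subgroup.index_ne_zero_of_finite hpn).ne'⟩
      rw [← e] at hxN
      rw [← orderOf_coe, ← hx, show qL x = 1 from (QuotientGroup.eq_one_iff x).2 hxN, orderOf_one] at hz
      exact hp.ne_one hz.symm
    · -- then the index is a power of `p`
      refine hnot ⟨p, ?_⟩
      have hpg : IsPGroup p (K.map qL) := by
        rintro ⟨_, x, hx, rfl⟩
        refine ⟨n.factorization p, Subtype.ext ?_⟩
        have := (e.symm ▸ hx : x ∈ N).2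
        simpa using this
      obtain ⟨j, hj⟩ := hpg.exists_card_eq
      rw [hcard] at hj
      have hQp : IsPGroup p (↥K ⧸ M.subgroupOf K) :=
        isPGroup_of_index_commutator (j := j) (hindex.trans hj)
      obtain ⟨m, hm⟩ := hQp.exists_card_eq
      exact ⟨m, hp, hm⟩
  rcases hgood with h | h | h | h | ⟨p, m, hp, hm, hdvd⟩
  · exact hbig (hmid h)
  · exact hbig h
  · exact hbig (hmid (hnp h))
  · exact hab h
  · have := Fact.mk hp
    obtain ⟨j, -, hj⟩ := (Nat.dvd_prime_pow hp).1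
      (hm ▸ Dvd.intro_left _ (relIndex_mul_relIndex M H₁ K hMH₁ hH₁K.le) : H₁.relIndex K ∣ p ^ m)
    rcases j with _ | _ | j
    · exact absurd (relIndex_eq_one.1 (hj.trans (pow_zero p))) hH₁K.not_ge
    · -- cyclic abelianisation
      refine hab ?_
      have : IsCyclic ((↥K ⧸ M.subgroupOf K) ⧸ commutator (↥K ⧸ M.subgroupOf K)) :=
        isCyclic_of_prime_card (p := p) (by
          rw [← Subgroup.index_eq_card, hindex, hj, zero_add, pow_one])
      have h0 := isMulCommutative_of_cyclic_index (Q := ↥K ⧸ M.subgroupOf K)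
      rw [commutator_le]
      intro a ha b hb
      have h1 : q ⁅(⟨a, ha⟩ : K), (⟨b, hb⟩ : K)⁆ ∈ ⁅(⊤ : Subgroup (↥K ⧸ M.subgroupOf K)), (⊤ : Subgroup (↥K ⧸ M.subgroupOf K))⁆ := by
        rw [map_commutatorElement]
        exact commutator_mem_commutator (mem_top _) (mem_top _)
      rw [h0, mem_bot] at h1
      exact (QuotientGroup.eq_one_iff (⁅(⟨a, ha⟩ : K), (⟨b, hb⟩ : K)⁆)).1 h1
    · refine hbig ?_
      have hp2 : Odd p := by
        have : Odd (H₁.relIndex K) := hrel
        rw [hj] at this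
        exact (Nat.odd_pow_iff (by omega)).1 this
      have he1 : K.index ≠ 1 := fun h => hKL.ne (Subgroup.index_eq_one.1 h)
      obtain ⟨k, hk⟩ := hdvd
      obtain ⟨l, hl⟩ := hodde
      obtain ⟨o, ho⟩ := hp2
      have hp3 : 2 * K.index + 1 ≤ p := by
        have := hp.two_le
        rcases k with _ | _ | k
        · omega
        · omega
        · have : K.index * 2 ≤ K.index * (k + 1 + 1) := Nat.mul_le_mul_left _ (by omega)
          omega
      rw [hj]
      calc 4 * K.index ^ 2 + 1 < (2 * K.index + 1) ^ 2 := by ring_nf; omega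
        _ ≤ p ^ 2 := Nat.pow_le_pow_left hp3 2
        _ ≤ p ^ (j + 1 + 1) := Nat.pow_le_pow_right hp.pos (by omega)

end Cfsg.Agent.OddChars
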