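import Cfsg.Agent.OddChars.FrobeniusCoherence
import Cfsg.Agent.Char.TISylowCong
import Cfsg.Agent.S0150
import Cfsg.Agent.S1514
import Cfsg.Agent.S1531

/-!
# Coherence for T.I. kernels (Sibley)
-/

set_option autoImplicit false

namespace Cfsg.Agent.OddChars

open Subgroup
open Cfsg.Agent.Char
open Cfsg.Agent.CharArith (charDegree_spec)
open scoped commutatorElement

universe u

variable {G : Type u} [Group G] {K : Subgroup G}

local notation "NK" => Subgroup.normalizer (K : Set G)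

local notation "K'" => Subgroup.subgroupOf K (Subgroup.normalizer (K : Set G))

instance : (K').Normal := Subgroup.normal_in_normalizer

theorem ti_cent_le (hC : ∀ k ∈ K, k ≠ 1 → centralizer ({k} : Set G) ≤ K) :
    ∀ k ∈ K', k ≠ 1 → centralizer ({k} : Set (NK)) ≤ K' := by
  intro k hk hk1 x hx
  rw [mem_centralizer_singleton_iff] at hx
  exact hC k hk (fun e => hk1 (Subtype.ext e))
    (mem_centralizer_singleton_iff.2 (congrArg Subtype.val hx))

theorem ti_card : Nat.card (K') = Nat.card K :=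
  Nat.card_congr (subgroupOfEquivOfLe le_normalizer).toEquiv

theorem ti_ne_bot (hK1 : K ≠ ⊥) : K' ≠ ⊥ := by
  rw [ne_eq, subgroupOf_eq_bot, disjoint_iff, inf_eq_left.2 le_normalizer]
  exact hK1

theorem ti_ne_top (hlt : K < NK) : K' ≠ ⊤ := by
  rw [ne_eq, subgroupOf_eq_top]
  exact hlt.not_ge

theorem ti_nilpotent (hnil : Group.IsNilpotent K) : Group.IsNilpotent (K') :=
  have := hnil
  Group.nilpotent_of_mulEquiv (subgroupOfEquivOfLe (le_normalizer (H := K))).symm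

theorem ti_relIndex_derived [Finite G] :
    ⁅K', K'⁆.relIndex (K') = (⁅K, K⁆.subgroupOf K).index := by
  have h1 : (K').map (NK).subtype = K := map_subgroupOf_eq_of_le le_normalizer
  rw [← relIndex_map_map_of_injective (f := (NK).subtype) _ _ (subtype_injective _),
    map_commutator, h1]
  rfl

theorem ti_isMulCommutative_iff : IsMulCommutative (K') ↔ IsMulCommutative K := by
  constructor
  · intro h
    refine ⟨⟨fun a b => ?_⟩⟩
    have := h.is_comm.comm (⟨⟨a, le_normalizer a.2⟩, a.2⟩ : K') ⟨⟨b, le_normalizer b.2⟩, b.2⟩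
    exact Subtype.ext (congrArg (fun x : K' => ((x : NK) : G)) this)
  · intro h
    exact ⟨⟨fun a b => Subtype.ext (Subtype.ext
      (congrArg (fun x : K => (x : G)) (h.is_comm.comm (⟨_, a.2⟩ : K) ⟨_, b.2⟩) :))⟩⟩

variable [Fintype G] [Fintype (Subgroup.normalizer (K : Set G))]

/-- Induction is an isometry on the characters vanishing at `1`. -/
theorem ti_iso (hTI : IsTISubset (K : Set G))
    (hC : ∀ k ∈ K, k ≠ 1 → centralizer ({k} : Set G) ≤ K) :
    IrrIso (inducedIrrAbove (K') ⊥) (fun α : NK → ℂ => indFun (NK) α) := by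
  classical
  have hirr : ∀ χ ∈ inducedIrrAbove (K') ⊥, IsIrrCharacter (NK) χ :=
    fun χ hχ => frob_irr (ti_cent_le hC) hχ
  have hgen : ∀ α ∈ zspanOn (inducedIrrAbove (K') ⊥) {1}ᶜ, IsGeneralizedCharacter (NK) α :=
    fun α hα => Coherence.isGeneralized_zspan (fun χ hχ =>
      isGeneralized_of_isCharacter (IsIrr.isCharacter (hirr χ hχ))) hα.1
  have hoff : ∀ α ∈ zspanOn (inducedIrrAbove (K') ⊥) {1}ᶜ,
      ∀ x : NK, (x : G) ∉ (K : Set G) → α x = 0 := fun α hα =>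
    Coherence.zspan_induction (P := fun α => ∀ x : NK, (x : G) ∉ (K : Set G) → α x = 0) hα.1
      (fun χ hχ x hx => by
        obtain ⟨θ, -, rfl⟩ := mem_inducedIrrAbove.1 hχ
        exact indFun_apply_of_normal _ θ (show x ∉ K' from hx))
      (fun _ _ => rfl) (fun β γ _ _ hb hc x hx => by simp [hb x hx, hc x hx])
      (fun n β _ hb x hx => by simp [hb x hx])
  refine ⟨hirr, ⟨fun α _ β _ => indFun_add _ α β, fun α _ n => ?_, fun α hα β hβ => ?_,
    fun α hα => isGeneralized_indFun _ (hgen α hα)⟩, fun α hα => ?_⟩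
  · show indFun (NK) (n • α) = n • indFun (NK) α
    rw [← Int.cast_smul_eq_zsmul ℂ, indFun_smul, Int.cast_smul_eq_zsmul]
  · exact S0150.result (K : Set G) hTI (fun x hx => le_normalizer hx) α β
      (IsGen.isClassFunction (hgen α hα)) (IsGen.isClassFunction (hgen β hβ)) (hoff α hα)
      (hoff β hβ) (Coherence.mem_zspanOn_compl_one.1 hα).2
  · show indFun (NK) α 1 = 0
    rw [indFun_apply_one, (Coherence.mem_zspanOn_compl_one.1 hα).2, mul_zero]

/-- In odd order the family has a coherence system. -/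
theorem ti_system (hTI : IsTISubset (K : Set G))
    (hC : ∀ k ∈ K, k ≠ 1 → centralizer ({k} : Set G) ≤ K) (hodd : Odd (Nat.card (NK)))
    (hnil : Group.IsNilpotent K) (hK1 : K ≠ ⊥) :
    (∀ χ ∈ inducedIrrAbove (K') ⊥, Cfsg.conjFun χ ≠ χ) ∧
      ∃ R, IsCoherenceSystem (inducedIrrAbove (K') ⊥) (fun α : NK → ℂ => indFun (NK) α) R := by
  have hI := ti_iso hTI hC
  have hne : ∀ χ ∈ inducedIrrAbove (K') ⊥, Cfsg.conjFun χ ≠ χ := by
    intro χ hχ e
    have h1 := real_irr_eq_one hodd (hI.irr χ hχ) fun g => Complex.conj_eq_iff_im.1 (congrFun e g)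
    rw [frob_set_eq (ti_cent_le hC)] at hχ
    obtain ⟨-, h, -, hh⟩ := hχ
    exact hh (by rw [h1])
  have hnil' := ti_nilpotent hnil
  have hlt : (⊥ : Subgroup (NK)) < K' := bot_lt_iff_ne_bot.2 (ti_ne_bot hK1)
  obtain ⟨θ, hθ, -⟩ := exists_linear_above (K := K') (A := ⊥) inferInstance hlt
  exact ⟨hne, S1514.result _ ⟨_, mem_inducedIrrAbove.2 ⟨θ, hθ, rfl⟩⟩ hI.irr
    (fun χ hχ => ⟨inducedIrrAbove_conj_mem hχ, hne χ hχ⟩) _ hI.iso hI.map_one⟩

/-- The arithmetic of Sibley's argument. -/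
theorem sibley_arith {c n R x y : ℤ} (hc : 0 < c) (hn : 2 ≤ n) (hR : 2 ≤ R) (hy : c ∣ y)
    (h : x ^ 2 * R - 2 * x + (n * y ^ 2 + 2 * c * y) ≤ 0) :
    (y = 0 ∨ (y = -c ∧ n = 2)) ∧ (x = 0 ∨ (x = 1 ∧ R = 2)) ∧
      x ^ 2 * R - 2 * x + (n * y ^ 2 + 2 * c * y) = 0 := by
  obtain ⟨m, rfl⟩ := hy
  have hx0 : 0 ≤ x ^ 2 * R - 2 * x := by
    have h1 : 0 ≤ x * x * (R - 2) := mul_nonneg (mul_self_nonneg x) (by omega)
    have h2 : 0 ≤ x * (x - 1) := by rcases le_or_gt x 0 with h | h <;> nlinarith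
    nlinarith
  have hm : m = 0 ∨ (m = -1 ∧ n = 2) := by
    have h1 : m * (n * m + 2) ≤ 0 := by
      by_contra hm
      have h2 : 0 < c ^ 2 * (m * (n * m + 2)) := mul_pos (by positivity) (not_le.1 hm)
      nlinarith
    rcases lt_trichotomy m 0 with hm | hm | hm
    · have h2 : 0 ≤ n * m + 2 := by nlinarith
      have h3 : n * m ≤ 2 * m := by nlinarith
      have h4 : m = -1 := by omega
      subst h4
      exact Or.inr ⟨rfl, by omega⟩
    · exact Or.inl hm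
    · have h3 : 0 < n * m + 2 := by nlinarith
      nlinarith [mul_pos hm h3]
  have hy0 : n * (c * m) ^ 2 + 2 * c * (c * m) = 0 := by
    rcases hm with rfl | ⟨rfl, rfl⟩ <;> ring
  rw [hy0, add_zero] at h ⊢
  have heq : x ^ 2 * R - 2 * x = 0 := le_antisymm h hx0
  refine ⟨?_, ?_, heq⟩
  · rcases hm with rfl | ⟨rfl, rfl⟩
    · exact Or.inl (by ring)
    · exact Or.inr ⟨by ring, rfl⟩
  · rcases mul_eq_zero.1 (show x * (x * R - 2) = 0 by linear_combination heq) with h1 | h1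
    · exact Or.inl h1
    · have h2 : 0 < x := by nlinarith
      have h3 : x = 1 := by nlinarith
      subst h3
      exact Or.inr ⟨rfl, by omega⟩

/-- **Sibley's coherence theorem** for a nonabelian Sylow T.I. kernel. -/
theorem ti_sibley {p : ℕ} [Fact p.Prime] (P : Sylow p G) (hP : (P : Subgroup G) = K)
    (hTI : IsTISubset (K : Set G)) (hlt : K < NK)
    (hC : ∀ k ∈ K, k ≠ 1 → centralizer ({k} : Set G) ≤ K) (hodd : Odd (Nat.card (NK)))
    (hna : ¬ IsMulCommutative K) :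
    IsCoherent (inducedIrrAbove (K') ⊥) {1}ᶜ (fun α : NK → ℂ => indFun (NK) α) := by
  classical
  have hpK : IsPGroup p K := hP ▸ P.2
  have hnil : Group.IsNilpotent K := hpK.isNilpotent
  have hK1 : K ≠ ⊥ := by
    rintro rfl
    exact hna ⟨⟨fun a b => Subsingleton.elim _ _⟩⟩
  have hnil' := ti_nilpotent hnil
  have hsolv : Group.IsSolvable (K') := inferInstance
  have hC' := ti_cent_le hC
  have hI := ti_iso hTI hC
  obtain ⟨hconjne, R, hS⟩ := ti_system hTI hC hodd hnil hK1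
  set α : (NK → ℂ) → (G → ℂ) := fun β => indFun (NK) β with hα
  set S := inducedIrrAbove (K') (⊥ : Subgroup (NK)) with hSdef
  have hlt₁ : ⁅K', K'⁆ < K' := derived_lt hnil' (ti_ne_bot hK1)
  set H₁ := ⁅K', K'⁆ with hH₁
  set e := (K').index with he
  have he0 : 0 < e := Nat.pos_of_ne_zero (K').index_ne_zero_of_finite
  have hodde : Odd e := hodd.of_dvd_nat (K').index_dvd_card
  -- the central subgroup
  let Z : Subgroup (NK) :=
    { carrier := {x | x ∈ H₁ ∧ ∀ y ∈ K', x * y = y * x}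
      one_mem' := ⟨one_mem _, fun y _ => by simp⟩
      mul_mem' := fun {a b} ha hb => ⟨mul_mem ha.1 hb.1, fun y hy =>
        (Commute.mul_left (ha.2 y hy) (hb.2 y hy))⟩
      inv_mem' := fun {a} ha => ⟨inv_mem ha.1, fun y hy => Commute.inv_left (ha.2 y hy)⟩ }
  have hZH : Z ≤ H₁ := fun x hx => hx.1
  have hZK : Z ≤ K' := hZH.trans hlt₁.le
  have hZc : ∀ z ∈ Z, ∀ k ∈ K', z * k = k * z := fun z hz => hz.2
  have hZn : Z.Normal := ⟨fun x hx g => ⟨(inferInstance : H₁.Normal).conj_mem x hx.1 g,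
    fun y hy => by
      have h1 := hx.2 (g⁻¹ * y * g) (by simpa using (inferInstance : (K').Normal).conj_mem y hy g⁻¹)
      calc g * x * g⁻¹ * y = g * (x * (g⁻¹ * y * g)) * g⁻¹ := by group
        _ = g * ((g⁻¹ * y * g) * x) * g⁻¹ := by rw [h1]
        _ = y * (g * x * g⁻¹) := by group⟩⟩
  have hZ1 : Z ≠ ⊥ := by
    have hne : commutator (K') ≠ ⊥ := by
      intro h
      refine hna (ti_isMulCommutative_iff.1 (commutator_eq_bot_iff_comm.1 ?_))
      rw [← map_subtype_commutator, h, Subgroup.map_bot]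
    obtain ⟨z, hz, hz1⟩ := (bot_or_exists_ne_one _).resolve_left
      (Core.inf_center_ne_bot (G := K') hne)
    intro hbot
    have hzZ : (z : NK) ∈ Z := ⟨by
      rw [hH₁, ← map_subtype_commutator]; exact mem_map_of_mem _ hz.1,
      fun y hy => congrArg Subtype.val (mem_center_iff.1 hz.2 ⟨y, hy⟩).symm⟩
    rw [hbot, mem_bot] at hzZ
    exact hz1 (Subtype.ext hzZ)
  -- the two coherent pieces
  set X := S \ inducedIrrAbove (K') Z with hXdef
  set Y := inducedIrrAbove (K') H₁ with hYdef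
  have hfrob := mem_of_commutator_mem hC' hlt₁.le
  have hirrX : ∀ χ ∈ X, IsIrrCharacter (NK) χ := fun χ hχ => hI.irr χ hχ.1
  have hXcoh : IsCoherent X {1}ᶜ α := coherent_diff hsolv hS hodd hnil' hlt₁
    (lt_top_iff_ne_top.2 (ti_ne_top hlt)) hfrob hZ1 hZK hZc hirrX
  have hYcoh : IsCoherent Y {1}ᶜ α := coherent_above_derived hsolv hS le_rfl hlt₁
  have hXset := diff_eq_irr_nontrivial hZK hirrX
  have hXS : X ⊆ S := Set.sdiff_subset
  have hYS : Y ⊆ S := inducedIrrAbove_subset_bot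
  have hXY : Disjoint X Y := Set.disjoint_left.2 fun χ hχ hχY =>
    hχ.2 (inducedIrrAbove_mono hZH hχY)
  obtain ⟨-, σ, hσ, hσα⟩ := hXcoh
  obtain ⟨-, τ, hτ, hτα⟩ := hYcoh
  -- degrees
  choose! d hd using fun φ (hφ : φ ∈ S) => IsChar.degree (IsIrr.isCharacter (hI.irr φ hφ))
  have hdθ : ∀ θ ∈ Above (K') ⊥, d (indFun (K') θ) = e * charDegree θ := by
    intro θ hθ
    have h0 := hd _ (mem_inducedIrrAbove.2 ⟨θ, hθ, rfl⟩)
    rw [indFun_apply_one, charDegree_spec (IsIrr.isCharacter hθ.1)] at h0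
    exact_mod_cast h0.symm
  obtain ⟨m, hm⟩ := hpK.exists_card_eq
  have hpow : ∀ θ ∈ Above (K') ⊥, ∃ i, charDegree θ = p ^ i := fun θ hθ => by
    obtain ⟨i, -, hi⟩ := (Nat.dvd_prime_pow (Fact.out : p.Prime)).1
      (show charDegree θ ∣ p ^ m by
        rw [← hm, ← ti_card (K := K)]
        exact IsIrr.degree_dvd_card hθ.1 (charDegree_spec (IsIrr.isCharacter hθ.1)))
    exact ⟨i, hi⟩
  obtain ⟨θe, hθe, hθeZ⟩ := exists_above_not_mem hZ1 hZK
  obtain ⟨θ₀, hθ₀, hmin⟩ := Finset.exists_min_image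
    ((above_finite (K := K') (A := ⊥)).toFinset.filter fun θ => θ ∉ Above (K') Z) charDegree
    ⟨θe, Finset.mem_filter.2 ⟨(Set.Finite.mem_toFinset _).2 hθe, hθeZ⟩⟩
  rw [Finset.mem_filter, Set.Finite.mem_toFinset] at hθ₀
  set c := charDegree θ₀ with hc
  have hc0 : 0 < c := charDegree_pos hθ₀.1.1
  have hXrep : ∀ χ ∈ X, ∃ θ ∈ Above (K') ⊥, c ∣ charDegree θ ∧ χ = indFun (K') θ := by
    intro χ hχ
    obtain ⟨θ, hθ, hθZ, rfl⟩ := mem_diff_iff.1 hχ
    refine ⟨θ, hθ, ?_, rfl⟩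
    have h1 := hmin θ (Finset.mem_filter.2 ⟨(Set.Finite.mem_toFinset _).2 hθ, hθZ⟩)
    obtain ⟨i, hi⟩ := hpow θ hθ
    obtain ⟨j, hj⟩ := hpow θ₀ hθ₀.1
    rw [hc, hi, hj] at h1 ⊢
    exact pow_dvd_pow p ((Nat.pow_le_pow_iff_right (Fact.out : p.Prime).one_lt).1 h1)
  set χ₀ := indFun (K') θ₀ with hχ₀def
  have hχ₀ : χ₀ ∈ X := mem_diff_iff.2 ⟨θ₀, hθ₀.1, hθ₀.2, rfl⟩
  have hdχ₀ : d χ₀ = e * c := hdθ θ₀ hθ₀.1
  obtain ⟨θY, hθY, hθY1⟩ := exists_linear_above (A := H₁) hsolv hlt₁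
  set η₀ := indFun (K') θY with hη₀def
  have hη₀ : η₀ ∈ Y := mem_inducedIrrAbove.2 ⟨θY, hθY, rfl⟩
  have hdY : ∀ η ∈ Y, d η = e := by
    intro η hη
    obtain ⟨θ, hθ, rfl⟩ := mem_inducedIrrAbove.1 hη
    have h1 := degree_sq_le (B := H₁) (C := K') (D := K') hlt₁.le le_rfl le_rfl
      (fun x hx y hy => by simpa [commutatorElement_def] using commutator_mem_commutator hx hy)
      hθ.1 hθ.2.2
    rw [relIndex_self, one_pow, one_mul] at h1
    have h2 := charDegree_pos hθ.1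
    have h3 : charDegree θ = 1 := le_antisymm ((Nat.le_self_pow two_ne_zero _).trans h1) h2
    rw [hdθ θ ⟨hθ.1, hθ.2.1, fun a ha => hθ.2.2 a (bot_le (a := H₁) ha)⟩, h3, mul_one]
  -- multiplicities `r`
  set r : (NK → ℂ) → ℕ := fun χ => d χ / (e * c) with hr
  have hrd : ∀ χ ∈ X, d χ = r χ * (e * c) := by
    intro χ hχ
    obtain ⟨θ, hθ, hdvd, rfl⟩ := hXrep χ hχ
    rw [hr, Nat.div_mul_cancel]
    rw [hdθ θ hθ]
    exact Nat.mul_dvd_mul_left e hdvd
  have hr0 : r χ₀ = 1 := by rw [hr]; simp only; rw [hdχ₀, Nat.div_self (by positivity)]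
  have hrpos : ∀ χ ∈ X, 1 ≤ r χ := fun χ hχ => Nat.one_le_iff_ne_zero.2 fun h => by
    have := hrd χ hχ
    rw [h, zero_mul] at this
    exact IsIrr.one_ne_zero (hirrX χ hχ) (by rw [hd χ (hXS hχ), this, Nat.cast_zero])
  have hrc : ∀ χ ∈ X, r (Cfsg.conjFun χ) = r χ := fun χ hχ => by
    have h0 := hd _ (hXS (diff_conj_mem hχ))
    rw [Coherence.isChar_conjFun_one (IsIrr.isCharacter (hirrX χ hχ)), hd χ (hXS hχ)] at h0
    rw [hr]; simp only; rw [show d (Cfsg.conjFun χ) = d χ from (by exact_mod_cast h0.symm)]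
  -- pairwise facts
  have hirrS := hI.irr
  have hY2 : ∃ a ∈ Y, ∃ b ∈ Y, a ≠ b :=
    ⟨η₀, hη₀, _, inducedIrrAbove_conj_mem hη₀, (hconjne η₀ (hYS hη₀)).symm⟩
  have hX2 : ∃ a ∈ X, ∃ b ∈ X, a ≠ b :=
    ⟨χ₀, hχ₀, _, diff_conj_mem hχ₀, (hconjne χ₀ (hXS hχ₀)).symm⟩
  obtain ⟨hzero, -⟩ := S1531.result (NK) S X Y hirrS hXS hYS hXY hX2 hY2 α hI.iso hI.map_one
    σ τ hσ hσα hτ hτα
  have hnXY : ∀ χ ∈ X, ∀ η ∈ Y, classInner χ η = 0 := fun χ hχ η hη =>
    classInner_irr_ne (hirrX χ hχ) (hirrS η (hYS hη)) fun e => Set.disjoint_left.1 hXY hχ (e ▸ hη)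
  -- the function `c • η₀ - χ₀`
  set θ₂ := (c : ℤ) • η₀ - χ₀ with hθ₂
  have hθ₂m : θ₂ ∈ zspanOn S {1}ᶜ := Coherence.mem_zspanOn_compl_one.2
    ⟨Coherence.zspan_sub (Coherence.zspan_zsmul _ (Coherence.mem_zspan_of_mem (hYS hη₀)))
      (Coherence.mem_zspan_of_mem (hXS hχ₀)), by
      simp [hθ₂, hd _ (hYS hη₀), hd _ (hXS hχ₀), hdY η₀ hη₀, hdχ₀]; ring⟩
  set β := α θ₂ with hβ
  have hγX : ∀ χ ∈ X, (r χ : ℤ) • χ₀ - χ ∈ zspanOn X {1}ᶜ := fun χ hχ =>
    Coherence.mem_zspanOn_compl_one.2 ⟨Coherence.zspan_sub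
      (Coherence.zspan_zsmul _ (Coherence.mem_zspan_of_mem hχ₀)) (Coherence.mem_zspan_of_mem hχ),
      by simp [hd _ (hXS hχ), hd _ (hXS hχ₀), hrd χ hχ, hdχ₀]⟩
  have hγY : ∀ η ∈ Y, η - η₀ ∈ zspanOn Y {1}ᶜ := fun η hη =>
    Coherence.mem_zspanOn_compl_one.2 ⟨Coherence.zspan_sub (Coherence.mem_zspan_of_mem hη)
      (Coherence.mem_zspan_of_mem hη₀), by
        simp [hd _ (hYS hη), hd _ (hYS hη₀), hdY η hη, hdY η₀ hη₀]⟩
  have hαX : ∀ χ ∈ X, α ((r χ : ℤ) • χ₀ - χ) = (r χ : ℤ) • σ χ₀ - σ χ := fun χ hχ => by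
    rw [← hσα _ (hγX χ hχ), Coherence.iso_zspan_sub hσ
      (Coherence.zspan_zsmul _ (Coherence.mem_zspan_of_mem hχ₀)) (Coherence.mem_zspan_of_mem hχ),
      hσ.2.1 _ (Coherence.mem_zspan_of_mem hχ₀)]
  have hαY : ∀ η ∈ Y, α (η - η₀) = τ η - τ η₀ := fun η hη => by
    rw [← hτα _ (hγY η hη), Coherence.iso_zspan_sub hτ (Coherence.mem_zspan_of_mem hη)
      (Coherence.mem_zspan_of_mem hη₀)]
  have hgenσ : ∀ χ ∈ X, IsGeneralizedCharacter G (σ χ) := fun χ hχ =>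
    hσ.2.2.2 _ (Coherence.mem_zspan_of_mem hχ)
  have hgenτ : ∀ η ∈ Y, IsGeneralizedCharacter G (τ η) := fun η hη =>
    hτ.2.2.2 _ (Coherence.mem_zspan_of_mem hη)
  have hgenβ : IsGeneralizedCharacter G β := hI.iso.2.2.2 _ hθ₂m
  obtain ⟨x', hx'⟩ := classInner_generalized_int hgenβ (hgenσ χ₀ hχ₀)
  obtain ⟨y', hy'⟩ := classInner_generalized_int hgenβ (hgenτ η₀ hη₀)
  set x := x' + 1 with hxdef
  set y := y' - (c : ℤ) with hydef
  have hcX : ∀ χ ∈ X, classInner β (σ χ) = ((r χ * x - if χ = χ₀ then 1 else 0 : ℤ) : ℂ) := by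
    intro χ hχ
    have h1 : classInner β (α ((r χ : ℤ) • χ₀ - χ)) = classInner θ₂ ((r χ : ℤ) • χ₀ - χ) :=
      hI.iso.2.2.1 _ hθ₂m _ (Coherence.zspanOn_mono hXS (hγX χ hχ))
    rw [hαX χ hχ] at h1
    simp only [hθ₂, ← Int.cast_smul_eq_zsmul ℂ, classInner_sub_left, classInner_sub_right,
      classInner_smul_left, classInner_smul_right, hx', Coherence.inner_eq_zero_comm
        (hnXY χ hχ η₀ hη₀), Coherence.inner_eq_zero_comm (hnXY χ₀ hχ₀ η₀ hη₀),
      classInner_irr_self (hirrX χ₀ hχ₀), classInner_irr (hirrX χ₀ hχ₀) (hirrX χ hχ),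
      map_intCast, mul_zero, mul_one, sub_zero, zero_sub] at h1
    rw [hxdef]
    by_cases hχe : χ = χ₀
    · subst hχe
      rw [hx', if_pos rfl, hr0]; push_cast; ring
    · rw [if_neg hχe]
      rw [if_neg (Ne.symm hχe)] at h1
      push_cast at h1 ⊢
      linear_combination -h1
  have hcY : ∀ η ∈ Y, classInner β (τ η) = ((y + if η = η₀ then (c : ℤ) else 0 : ℤ) : ℂ) := by
    intro η hη
    rw [hydef]
    by_cases hηe : η = η₀
    · subst hηe
      rw [hy', if_pos rfl]; push_cast; ring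
    have h1 : classInner β (α (η - η₀)) = classInner θ₂ (η - η₀) :=
      hI.iso.2.2.1 _ hθ₂m _ (Coherence.zspanOn_mono hYS (hγY η hη))
    rw [hαY η hη] at h1
    simp only [hθ₂, ← Int.cast_smul_eq_zsmul ℂ, classInner_sub_left, classInner_sub_right,
      classInner_smul_left, hy', hnXY χ₀ hχ₀ η hη, hnXY χ₀ hχ₀ η₀ hη₀,
      classInner_irr_self (hirrS η₀ (hYS hη₀)),
      classInner_irr_ne (hirrS η₀ (hYS hη₀)) (hirrS η (hYS hη)) (Ne.symm hηe),
      mul_zero, mul_one, sub_zero, zero_sub] at h1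
    rw [if_neg hηe]
    push_cast at h1 ⊢
    linear_combination h1
  -- the congruence gives `c ∣ y`
  have hcy : (c : ℤ) ∣ y := by
    set f : NK → ℂ := fun a => τ η₀ a with hf
    have hfgen : IsGeneralizedCharacter (NK) f := isGeneralized_comp (NK).subtype (hgenτ η₀ hη₀)
    have hfc := IsGen.isClassFunction hfgen
    obtain ⟨k, hk⟩ := classInner_generalized_int
      (isGeneralized_of_isCharacter (IsIrr.isCharacter (hirrX χ₀ hχ₀))) hfgen
    obtain ⟨k', hk'⟩ := classInner_generalized_int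
      (isGeneralized_of_isCharacter (IsIrr.isCharacter (hirrS η₀ (hYS hη₀)))) hfgen
    have hkr : ∀ χ ∈ X, classInner f χ = ((r χ : ℤ) * k : ℤ) := by
      intro χ hχ
      have h1 : classInner ((r χ : ℤ) • χ₀ - χ) f = 0 := by
        rw [hf, ← classInner_indFun_left _ _ (IsGen.isClassFunction (hgenτ η₀ hη₀))]
        show classInner (α ((r χ : ℤ) • χ₀ - χ)) (τ η₀) = 0
        rw [hαX χ hχ]
        simp [← Int.cast_smul_eq_zsmul ℂ, classInner_sub_left, classInner_smul_left,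
          hzero χ₀ hχ₀ η₀ hη₀, hzero χ hχ η₀ hη₀]
      rw [← Int.cast_smul_eq_zsmul ℂ, classInner_sub_left, classInner_smul_left, hk,
        sub_eq_zero] at h1
      rw [← classInner_conj_symm, ← h1, map_mul, map_intCast, map_intCast, Int.cast_mul]
    have hval : ∀ z ∈ Z, z ≠ 1 → (c : ℂ) * (f 1 - f z) = (k : ℂ) * Nat.card K := by
      intro z hz hz1
      have hexp := classFun_expansion hfc
      have hterm : ∀ ψ : IrrCharacter (NK),
          (e * c : ℂ) * (classInner f (ψ : NK → ℂ) * ((ψ : NK → ℂ) 1 - (ψ : NK → ℂ) z)) =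
            k * ((ψ : NK → ℂ) 1 * ((ψ : NK → ℂ) 1 - (ψ : NK → ℂ) z)) := by
        intro ψ
        by_cases hψ : (ψ : NK → ℂ) z = (ψ : NK → ℂ) 1
        · rw [hψ, sub_self]; ring
        have hψX : (ψ : NK → ℂ) ∈ X := (Set.ext_iff.1 hXset _).2 ⟨ψ.2, z, hz, hψ⟩
        rw [hkr _ hψX, hd _ (hXS hψX), hrd _ hψX]
        push_cast
        ring
      have h1 := congrFun hexp 1
      have h2 := congrFun hexp z
      simp only [Finset.sum_apply, Pi.smul_apply, smul_eq_mul] at h1 h2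
      have h3 : (e * c : ℂ) * (f 1 - f z) = k * Nat.card (NK) := by
        rw [h1, h2, ← Finset.sum_sub_distrib]
        simp only [← mul_sub, Finset.mul_sum]
        rw [Finset.sum_congr rfl fun ψ _ => hterm ψ, ← Finset.mul_sum]
        congr 1
        simp only [mul_sub, Finset.sum_sub_distrib, regular_eq_sum, if_neg hz1, if_true, sub_zero]
      rw [← (K').card_mul_index, ti_card, ← he, Nat.cast_mul] at h3
      have he' : (e : ℂ) ≠ 0 := Nat.cast_ne_zero.2 he0.ne'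
      exact mul_left_cancel₀ he' (by linear_combination h3)
    have hη₀z := Coherence.mem_zspan_of_mem hη₀
    obtain ⟨μ, hμ⟩ := IsGen.eq_pm_irr (hgenτ η₀ hη₀)
      (by rw [hτ.2.2.1 _ hη₀z _ hη₀z, classInner_irr_self (hirrS η₀ (hYS hη₀))])
    obtain ⟨δ, hδ1, hδ⟩ : ∃ δ : ℤ, (δ = 1 ∨ δ = -1) ∧ ∀ g, τ η₀ g = (δ : ℂ) * (μ : G → ℂ) g := by
      rcases hμ with h | h
      · exact ⟨1, Or.inl rfl, fun g => by simp [h]⟩
      · exact ⟨-1, Or.inr rfl, fun g => by simp [h]⟩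
    have hδ0 : (δ : ℂ) ≠ 0 := by rcases hδ1 with rfl | rfl <;> norm_num
    have hc0' : (c : ℂ) ≠ 0 := Nat.cast_ne_zero.2 hc0.ne'
    set ZG := Z.map (NK).subtype with hZG
    have hmemZG : ∀ z ∈ ZG, ∃ w ∈ Z, (w : G) = z := fun z hz => by
      obtain ⟨w, hw, rfl⟩ := mem_map.1 hz
      exact ⟨w, hw, rfl⟩
    have hμc : ∀ z ∈ ZG, ∀ z' ∈ ZG, z ≠ 1 → z' ≠ 1 → (μ : G → ℂ) z = (μ : G → ℂ) z' := by
      intro z hz z' hz' hne hne'
      obtain ⟨w, hw, rfl⟩ := hmemZG z hz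
      obtain ⟨w', hw', rfl⟩ := hmemZG z' hz'
      have h1 := hval w hw fun e => hne (by rw [e]; rfl)
      have h2 := hval w' hw' fun e => hne' (by rw [e]; rfl)
      rw [← h2] at h1
      have h3 := sub_right_injective (mul_left_cancel₀ hc0' h1)
      simp only [hf, hδ] at h3
      exact mul_left_cancel₀ hδ0 h3
    obtain ⟨z, hz, hz1⟩ := (bot_or_exists_ne_one Z).resolve_left hZ1
    subst hP
    obtain ⟨n, d', hn', hd', w, hw⟩ := ti_sylow_cong P hTI hodd ZG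
      (fun z hz => by obtain ⟨w, hw, rfl⟩ := hmemZG z hz; exact hZK hw)
      (fun g hg z hz => by
        obtain ⟨w, hw, rfl⟩ := hmemZG z hz
        exact mem_map.2 ⟨_, hZn.conj_mem w hw ⟨g, hg⟩, rfl⟩)
      (fun z hz y hy => by
        obtain ⟨w, hw, rfl⟩ := hmemZG z hz
        exact congrArg Subtype.val (hZc w hw ⟨y, le_normalizer hy⟩ hy))
      μ hμc z (mem_map_of_mem _ hz) (fun e => hz1 (Subtype.ext e))
    have hfz := hval z hz hz1
    simp only [hf, hδ, OneMemClass.coe_one, hd', hn'] at hfz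
    have hw' : ((d' - n : ℤ) : ℂ) = ((Nat.card (P : Subgroup G) * w : ℤ) : ℂ) := by rw [hw]
    push_cast at hw'
    have hk2 : (k : ℂ) = ((c * (δ * w) : ℤ) : ℂ) := by
      have hP0 : (Nat.card (P : Subgroup G) : ℂ) ≠ 0 := Nat.cast_ne_zero.2 Nat.card_pos.ne'
      refine mul_right_cancel₀ hP0 ?_
      push_cast
      linear_combination (-1 : ℂ) * hfz + (c : ℂ) * δ * hw'
    have hk3 : k = c * (δ * w) := by exact_mod_cast hk2
    have hy2 : (y' : ℂ) = ((c : ℤ) * k' - k : ℤ) := by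
      rw [← hy', hβ, hα]
      show classInner (indFun (normalizer ((P : Subgroup G) : Set G)) θ₂) (τ η₀) = _
      rw [classInner_indFun_left _ _ (IsGen.isClassFunction (hgenτ η₀ hη₀)), hθ₂,
        ← Int.cast_smul_eq_zsmul ℂ, classInner_sub_left, classInner_smul_left, hk, hk']
      push_cast
      ring
    have hy3 : y' = (c : ℤ) * k' - k := by exact_mod_cast hy2
    exact ⟨k' - δ * w - 1, by rw [hydef, hy3, hk3]; ring⟩
  -- Bessel
  have hXfin : X.Finite := inducedIrrAbove_finite.subset hXS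
  set Xf := hXfin.toFinset with hXf
  have hYfin : Y.Finite := inducedIrrAbove_finite
  set Yf := hYfin.toFinset with hYf
  have hmX : ∀ {χ}, χ ∈ Xf ↔ χ ∈ X := hXfin.mem_toFinset
  have hmY : ∀ {χ}, χ ∈ Yf ↔ χ ∈ Y := hYfin.mem_toFinset
  have hdisj : Disjoint Xf Yf := Finset.disjoint_left.2 fun χ h1 h2 =>
    Set.disjoint_left.1 hXY (hmX.1 h1) (hmY.1 h2)
  set g : (NK → ℂ) → (G → ℂ) := fun χ => if χ ∈ X then σ χ else τ χ with hg
  have hgX : ∀ χ ∈ Xf, g χ = σ χ := fun χ h => if_pos (hmX.1 h)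
  have hgY : ∀ χ ∈ Yf, g χ = τ χ := fun χ h =>
    if_neg fun h' => Set.disjoint_left.1 hXY h' (hmY.1 h)
  have hinner : ∀ i ∈ Xf ∪ Yf, ∀ j ∈ Xf ∪ Yf, classInner (g i) (g j) = classInner i j := by
    intro i hi j hj
    rcases Finset.mem_union.1 hi with hi | hi <;> rcases Finset.mem_union.1 hj with hj | hj
    · rw [hgX i hi, hgX j hj, hσ.2.2.1 _ (Coherence.mem_zspan_of_mem (hmX.1 hi)) _
        (Coherence.mem_zspan_of_mem (hmX.1 hj))]
    · rw [hgX i hi, hgY j hj, hzero i (hmX.1 hi) j (hmY.1 hj), hnXY i (hmX.1 hi) j (hmY.1 hj)]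
    · rw [hgY i hi, hgX j hj, Coherence.inner_eq_zero_comm (hzero j (hmX.1 hj) i (hmY.1 hi)),
        Coherence.inner_eq_zero_comm (hnXY j (hmX.1 hj) i (hmY.1 hi))]
    · rw [hgY i hi, hgY j hj, hτ.2.2.1 _ (Coherence.mem_zspan_of_mem (hmY.1 hi)) _
        (Coherence.mem_zspan_of_mem (hmY.1 hj))]
  have hirrU : ∀ i ∈ Xf ∪ Yf, IsIrrCharacter (NK) i := fun i hi => by
    rcases Finset.mem_union.1 hi with hi | hi
    · exact hirrX i (hmX.1 hi)
    · exact hirrS i (hYS (hmY.1 hi))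
  have hself : ∀ i ∈ Xf ∪ Yf, classInner (g i) (g i) = 1 := fun i hi => by
    rw [hinner i hi i hi, classInner_irr_self (hirrU i hi)]
  obtain ⟨hle, heq⟩ := Coherence.bessel (Xf ∪ Yf) g
    (fun i hi e => by
      have := hself i hi
      rw [e, classInner_zero_left] at this
      exact zero_ne_one this)
    (fun i hi j hj hne => by rw [hinner i hi j hj, classInner_irr_ne (hirrU i hi) (hirrU j hj) hne])
    β
  have hnorm : (classInner β β).re = (c : ℝ) ^ 2 + 1 := by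
    rw [hβ, hI.iso.2.2.1 _ hθ₂m _ hθ₂m]
    simp [hθ₂, ← Int.cast_smul_eq_zsmul ℂ, classInner_sub_left, classInner_sub_right,
      classInner_smul_left, classInner_smul_right, hnXY χ₀ hχ₀ η₀ hη₀,
      Coherence.inner_eq_zero_comm (hnXY χ₀ hχ₀ η₀ hη₀), classInner_irr_self (hirrX χ₀ hχ₀),
      classInner_irr_self (hirrS η₀ (hYS hη₀)), sq]
  set Rr : ℤ := ∑ χ ∈ Xf, (r χ : ℤ) ^ 2 with hRr
  have hsum : ∑ i ∈ Xf ∪ Yf, ‖classInner β (g i)‖ ^ 2 / (classInner (g i) (g i)).re =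
      (((x ^ 2 * Rr - 2 * x + 1) + ((Yf.card : ℤ) * y ^ 2 + 2 * c * y + (c : ℤ) ^ 2) : ℤ) : ℝ) := by
    rw [Finset.sum_congr rfl fun i hi => show ‖classInner β (g i)‖ ^ 2 /
        (classInner (g i) (g i)).re = ‖classInner β (g i)‖ ^ 2 by
      rw [hself i hi, Complex.one_re, div_one], Finset.sum_union hdisj]
    have e1 : ∑ i ∈ Xf, ‖classInner β (g i)‖ ^ 2 = ((x ^ 2 * Rr - 2 * x + 1 : ℤ) : ℝ) := by
      rw [Finset.sum_congr rfl fun i hi => show ‖classInner β (g i)‖ ^ 2 =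
          (((r i : ℤ) ^ 2 * x ^ 2 - if i = χ₀ then 2 * x - 1 else 0 : ℤ) : ℝ) by
        rw [hgX i hi, hcX i (hmX.1 hi), Coherence.norm_intCast_sq]
        split_ifs with h
        · subst h; rw [hr0]; push_cast; ring
        · push_cast; ring, ← Int.cast_sum, Finset.sum_sub_distrib, Finset.sum_ite_eq',
        if_pos (hmX.2 hχ₀), ← Finset.sum_mul, ← hRr]
      congr 1; ring
    have e2 : ∑ i ∈ Yf, ‖classInner β (g i)‖ ^ 2 =
        (((Yf.card : ℤ) * y ^ 2 + 2 * c * y + (c : ℤ) ^ 2 : ℤ) : ℝ) := by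
      rw [Finset.sum_congr rfl fun i hi => show ‖classInner β (g i)‖ ^ 2 =
          ((y ^ 2 + if i = η₀ then 2 * c * y + (c : ℤ) ^ 2 else 0 : ℤ) : ℝ) by
        rw [hgY i hi, hcY i (hmY.1 hi), Coherence.norm_intCast_sq]
        split_ifs <;> push_cast <;> ring, ← Int.cast_sum, Finset.sum_add_distrib,
        Finset.sum_ite_eq', if_pos (hmY.2 hη₀), Finset.sum_const, nsmul_eq_mul]
      congr 1; ring
    rw [e1, e2, ← Int.cast_add]
  rw [hsum, hnorm] at hle heq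
  have hle' : x ^ 2 * Rr - 2 * x + ((Yf.card : ℤ) * y ^ 2 + 2 * c * y) ≤ 0 := by
    have : (x ^ 2 * Rr - 2 * x + 1) + ((Yf.card : ℤ) * y ^ 2 + 2 * c * y + (c : ℤ) ^ 2) ≤
        (c : ℤ) ^ 2 + 1 := by exact_mod_cast hle
    omega
  have hYc : 2 ≤ Yf.card := Finset.one_lt_card.2 ⟨η₀, hmY.2 hη₀, _,
    hmY.2 (inducedIrrAbove_conj_mem hη₀), (hconjne η₀ (hYS hη₀)).symm⟩
  have hpairne : χ₀ ≠ Cfsg.conjFun χ₀ := (hconjne χ₀ (hXS hχ₀)).symm
  have hpair : ({χ₀, Cfsg.conjFun χ₀} : Finset (NK → ℂ)) ⊆ Xf := by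
    rw [Finset.insert_subset_iff, Finset.singleton_subset_iff, hmX, hmX]
    exact ⟨hχ₀, diff_conj_mem hχ₀⟩
  have hRpair : ∑ χ ∈ ({χ₀, Cfsg.conjFun χ₀} : Finset (NK → ℂ)), (r χ : ℤ) ^ 2 = 2 := by
    rw [Finset.sum_pair hpairne, hrc χ₀ hχ₀, hr0]; norm_num
  have hR2 : 2 ≤ Rr := by
    rw [← hRpair]
    exact Finset.sum_le_sum_of_subset_of_nonneg hpair fun _ _ _ => by positivity
  obtain ⟨hycase, hxcase, hz0⟩ := sibley_arith (by exact_mod_cast hc0) (by exact_mod_cast hYc)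
    hR2 hcy hle'
  have hβeq := heq (by
    have : (x ^ 2 * Rr - 2 * x + 1) + ((Yf.card : ℤ) * y ^ 2 + 2 * c * y + (c : ℤ) ^ 2) =
        (c : ℤ) ^ 2 + 1 := by omega
    exact_mod_cast this)
  rw [Finset.sum_congr rfl fun i hi => show (classInner β (g i) / classInner (g i) (g i)) • g i =
      classInner β (g i) • g i by rw [hself i hi, div_one], Finset.sum_union hdisj] at hβeq
  -- adjusted isometries
  obtain ⟨σ', hσ', hσ'α, hsumX⟩ : ∃ σ' : (NK → ℂ) → (G → ℂ),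
      IsLinearIsometryOn (zspan X) σ' ∧ (∀ γ ∈ zspanOn X {1}ᶜ, σ' γ = α γ) ∧
      ∑ i ∈ Xf, classInner β (g i) • g i = -σ' χ₀ := by
    rcases hxcase with hx0 | ⟨hx1, hRe⟩
    · refine ⟨σ, hσ, hσα, ?_⟩
      rw [Finset.sum_eq_single χ₀ (fun i hi hne => by
          rw [hgX i hi, hcX i (hmX.1 hi), hx0, if_neg hne]; simp)
        (fun h => absurd (hmX.2 hχ₀) h), hgX χ₀ (hmX.2 hχ₀), hcX χ₀ hχ₀, hx0, if_pos rfl]
      simp
    · have hXeq : Xf = {χ₀, Cfsg.conjFun χ₀} := by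
        refine (Finset.Subset.antisymm hpair fun i hi => ?_).symm
        by_contra hi'
        have h1 : ∑ χ ∈ insert i ({χ₀, Cfsg.conjFun χ₀} : Finset (NK → ℂ)), (r χ : ℤ) ^ 2 ≤ Rr :=
          Finset.sum_le_sum_of_subset_of_nonneg (Finset.insert_subset hi hpair)
            fun _ _ _ => by positivity
        rw [Finset.sum_insert hi', hRpair, hRe] at h1
        have h2 : (1 : ℤ) ≤ r i := by exact_mod_cast hrpos i (hmX.1 hi)
        nlinarith
      have hXset' : X = {χ₀, Cfsg.conjFun χ₀} := by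
        rw [← hXfin.coe_toFinset, ← hXf, hXeq]; simp
      obtain ⟨σ', h1, h2, h3⟩ := exists_swap (hI.mono hXS) hpairne hXset'
        (Coherence.isChar_conjFun_one (IsIrr.isCharacter (hirrX χ₀ hχ₀))).symm hσ hσα
      refine ⟨σ', h1, h2, ?_⟩
      rw [hXeq, Finset.sum_pair hpairne, hgX χ₀ (hmX.2 hχ₀), hgX _ (hmX.2 (diff_conj_mem hχ₀)),
        hcX χ₀ hχ₀, hcX _ (diff_conj_mem hχ₀), hx1, hr0, hrc χ₀ hχ₀, hr0, if_pos rfl,
        if_neg hpairne.symm, h3]
      simp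
  obtain ⟨τ', hτ', hτ'α, hsumY⟩ : ∃ τ' : (NK → ℂ) → (G → ℂ),
      IsLinearIsometryOn (zspan Y) τ' ∧ (∀ γ ∈ zspanOn Y {1}ᶜ, τ' γ = α γ) ∧
      ∑ i ∈ Yf, classInner β (g i) • g i = (c : ℂ) • τ' η₀ := by
    rcases hycase with hy0 | ⟨hy0, hn2⟩
    · refine ⟨τ, hτ, hτα, ?_⟩
      rw [Finset.sum_eq_single η₀ (fun i hi hne => by
          rw [hgY i hi, hcY i (hmY.1 hi), hy0, if_neg hne]; simp)
        (fun h => absurd (hmY.2 hη₀) h), hgY η₀ (hmY.2 hη₀), hcY η₀ hη₀, hy0, if_pos rfl]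
      simp
    · have hne := (hconjne η₀ (hYS hη₀)).symm
      have hYeq : Yf = {η₀, Cfsg.conjFun η₀} := by
        refine (Finset.eq_of_subset_of_card_le ?_ ?_).symm
        · rw [Finset.insert_subset_iff, Finset.singleton_subset_iff, hmY, hmY]
          exact ⟨hη₀, inducedIrrAbove_conj_mem hη₀⟩
        · rw [Finset.card_pair hne]; omega
      have hYset' : Y = {η₀, Cfsg.conjFun η₀} := by
        rw [← hYfin.coe_toFinset, ← hYf, hYeq]; simp
      obtain ⟨τ', h1, h2, h3⟩ := exists_swap (hI.mono hYS) hne hYset'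
        (Coherence.isChar_conjFun_one (IsIrr.isCharacter (hirrS η₀ (hYS hη₀)))).symm hτ hτα
      refine ⟨τ', h1, h2, ?_⟩
      rw [hYeq, Finset.sum_pair hne, hgY η₀ (hmY.2 hη₀), hgY _ (hmY.2 (inducedIrrAbove_conj_mem hη₀)),
        hcY η₀ hη₀, hcY _ (inducedIrrAbove_conj_mem hη₀), hy0, if_pos rfl, if_neg hne.symm, h3]
      simp
  rw [hsumX, hsumY] at hβeq
  -- the union is coherent
  have hunion : IsCoherent (X ∪ Y) {1}ᶜ α := by
    refine (S1531.result (NK) S X Y hirrS hXS hYS hXY hX2 hY2 α hI.iso hI.map_one σ' τ' hσ' hσ'α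
      hτ' hτ'α).2 ⟨χ₀, hχ₀, η₀, hη₀, ?_⟩
    have h1 : χ₀ 1 • η₀ - η₀ 1 • χ₀ = (e : ℂ) • θ₂ := by
      rw [hd _ (hXS hχ₀), hd _ (hYS hη₀), hdχ₀, hdY η₀ hη₀, hθ₂, ← Int.cast_smul_eq_zsmul ℂ,
        smul_sub, smul_smul]
      push_cast
      rfl
    rw [h1, hd _ (hXS hχ₀), hd _ (hYS hη₀), hdχ₀, hdY η₀ hη₀]
    show indFun (NK) ((e : ℂ) • θ₂) = _
    rw [indFun_smul, show indFun (NK) θ₂ = β from rfl, hβeq, Nat.cast_mul, smul_add, smul_smul,
      smul_neg]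
    abel
  -- absorb the rest
  set Sf := (inducedIrrAbove_finite (K := K') (A := (⊥ : Subgroup (NK)))).toFinset with hSf
  set SZ := (inducedIrrAbove_finite (K := K') (A := Z)).toFinset with hSZ
  have hsumX' : ∑ φ ∈ Xf, d φ ^ 2 + e * (Z.relIndex (K') - 1) = e * (Nat.card K - 1) := by
    rw [← frob_sum_sq hC' hZK d (fun φ hφ => hd φ (inducedIrrAbove_subset_bot hφ)), ← hSZ,
      ← ti_card (K := K), ← relIndex_bot_left, ← frob_sum_sq hC' bot_le d hd, ← hSf]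
    have hXeq : Xf = Sf \ SZ := by ext; simp [hXf, hSf, hSZ, hXdef, hSdef]
    rw [hXeq]
    refine Finset.sum_sdiff fun φ hφ => ?_
    rw [hSf, Set.Finite.mem_toFinset]
    exact inducedIrrAbove_subset_bot (K := K') ((Set.Finite.mem_toFinset _).1 hφ)
  set u := Z.relIndex (K') with hu
  have hzu : Nat.card Z * u = Nat.card K := by
    rw [← ti_card (K := K), ← relIndex_bot_left (K'), ← relIndex_mul_relIndex ⊥ Z (K') bot_le hZK,
      relIndex_bot_left]
  have hu0 : 0 < u := Nat.pos_of_ne_zero index_ne_zero_of_finite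
  have hbigX : 2 * e ^ 2 * u ≤ ∑ φ ∈ Xf, d φ ^ 2 := by
    obtain ⟨t, ht⟩ : ∃ t, Nat.card Z = t + 1 := ⟨Nat.card Z - 1, by
      have := Nat.card_pos (α := Z); omega⟩
    have hA : ∑ φ ∈ Xf, d φ ^ 2 = e * (t * u) := by
      obtain ⟨u', hu'⟩ : ∃ u', u = u' + 1 := ⟨u - 1, by omega⟩
      rw [hu', Nat.add_sub_cancel, ← hzu, ht, hu', show (t + 1) * (u' + 1) - 1 = t * (u' + 1) + u'
        by ring_nf; omega] at hsumX'
      rw [hu']
      linarith
    have hdiv : e ^ 2 ∣ e * (t * u) := hA ▸ Finset.dvd_sum fun φ hφ => by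
      rw [hrd φ (hmX.1 hφ)]; exact ⟨(r φ * c) ^ 2, by ring⟩
    rw [sq, Nat.mul_dvd_mul_iff_left he0] at hdiv
    have hcop : Nat.Coprime e u := Nat.Coprime.coprime_dvd_right
      (⟨Nat.card Z, by rw [ti_card, ← hzu, mul_comm]⟩ : u ∣ Nat.card (K'))
      (Coherence.FrobKernel.coprime_index hC').symm
    have hdt := hcop.dvd_of_dvd_mul_right hdiv
    have hoddZ : Odd (Nat.card Z) := hodd.of_dvd_nat Z.card_subgroup_dvd_card
    have ht2 : 2 * e ≤ t := by
      have ht0 : t ≠ 0 := fun h => hZ1 (eq_bot_of_card_eq _ (by rw [ht, h]))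
      obtain ⟨s, rfl⟩ := hdt
      obtain ⟨o, ho⟩ := hoddZ
      obtain ⟨l, hl⟩ := hodde
      rcases s with _ | _ | s
      · omega
      · omega
      · have : e * 2 ≤ e * (s + 1 + 1) := Nat.mul_le_mul_left _ (by omega)
        omega
    rw [hA]
    calc 2 * e ^ 2 * u = e * (2 * e * u) := by ring
      _ ≤ _ := Nat.mul_le_mul_left _ (Nat.mul_le_mul_right _ ht2)
  obtain ⟨T', -, hU, hT'S, hcoh⟩ := irr_coherent_absorb hI d hd (Xf ∪ Yf)
    (by rw [Finset.coe_union, hXf, hYf, hXfin.coe_toFinset, hYfin.coe_toFinset]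
        exact Set.union_subset hXS hYS)
    (by rw [Finset.coe_union, hXf, hYf, hXfin.coe_toFinset, hYfin.coe_toFinset]; exact hunion)
    η₀ (Finset.mem_union_right _ (hmY.2 hη₀)) Sf (by rw [hSf, Set.Finite.coe_toFinset]) (by
      intro χ hχ _
      obtain ⟨θ, hθ, rfl⟩ := mem_inducedIrrAbove.1 ((Set.Finite.mem_toFinset _).1 hχ)
      rw [hdY η₀ hη₀, hdθ θ hθ]
      refine ⟨dvd_mul_right _ _, ?_⟩
      have hb := degree_sq_le (B := ⊥) (C := K') (D := Z) bot_le hZK le_rfl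
        (fun a ha b hb => by rw [mem_bot, hZc a ha b hb, mul_inv_cancel_right, mul_inv_cancel])
        hθ.1 hθ.2.2
      rw [relIndex_self, one_pow, one_mul] at hb
      have h1 : 2 * e * (e * charDegree θ) ≤ ∑ φ ∈ Xf, d φ ^ 2 := by
        refine le_trans ?_ hbigX
        calc 2 * e * (e * charDegree θ) = 2 * e ^ 2 * charDegree θ := by ring
          _ ≤ _ := Nat.mul_le_mul_left _ ((Nat.le_self_pow two_ne_zero _).trans hb)
      rw [Finset.sum_union hdisj]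
      have h2 : 0 < ∑ φ ∈ Yf, d φ ^ 2 := Finset.sum_pos' (fun _ _ => Nat.zero_le _)
        ⟨η₀, hmY.2 hη₀, by rw [hdY η₀ hη₀]; positivity⟩
      omega)
  have hTeq : (↑T' : Set (NK → ℂ)) = S := Set.Subset.antisymm hT'S fun φ hφ =>
    hU ((Set.Finite.mem_toFinset _).2 hφ)
  exact hTeq ▸ hcoh

/-- The three cases for a nilpotent T.I. kernel. -/
theorem ti_trichotomy (hTI : IsTISubset (K : Set G)) (hlt : K < NK) (hK1 : K ≠ ⊥)
    (hnil : Group.IsNilpotent K) (hC : ∀ k ∈ K, k ≠ 1 → centralizer ({k} : Set G) ≤ K) :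
    (Nat.card K = (K').index + 1 ∧ ∃ p : ℕ, p.Prime ∧ IsElementaryAbelian p K) ∨
      (∃ P : Sylow 2 G, (P : Subgroup G) = K ∧
        (⁅K, K⁆.subgroupOf K).index < 4 * (K').index ^ 2) ∨
      (Nat.card K ≠ (K').index + 1 ∧
        IsCoherent (inducedIrrAbove (K') ⊥) {1}ᶜ (fun α : NK → ℂ => indFun (NK) α)) := by
  classical
  have hnil' := ti_nilpotent hnil
  have hC' := ti_cent_le hC
  set e := (K').index with he
  by_cases hcard : Nat.card K = e + 1
  · obtain ⟨hab, p, hp, hpe⟩ := elementary_of_card_eq hC' hnil' (ti_ne_bot hK1)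
      (by rw [ti_card]; exact hcard)
    refine Or.inl ⟨hcard, p, hp, ti_isMulCommutative_iff.1 hab, fun a ha => ?_⟩
    exact congrArg Subtype.val (hpe ⟨a, le_normalizer ha⟩ ha)
  by_cases hgood : IsMulCommutative (K') ∨ 4 * e ^ 2 + 1 < ⁅K', K'⁆.relIndex (K') ∨
      ¬ ∃ p m : ℕ, p.Prime ∧ Nat.card (K') = p ^ m
  · exact Or.inr (Or.inr ⟨hcard, frob_coherent hC' (ti_iso hTI hC) hnil' (ti_ne_bot hK1)
      (ti_ne_top hlt) (by rw [ti_card]; exact hcard) hgood⟩)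
  simp only [not_or, not_not] at hgood
  obtain ⟨hna, hsmall, p, m, hp, hm⟩ := hgood
  rw [ti_card] at hm
  rw [not_lt, ti_relIndex_derived] at hsmall
  have := Fact.mk hp
  have hpK : IsPGroup p K := IsPGroup.of_card hm
  have hodde : Odd e := Nat.not_even_iff_odd.1 fun h => hna (commutative_of_even hC' h)
  -- `K` is a Sylow subgroup
  obtain ⟨P, hKP⟩ := hpK.exists_le_sylow
  have hPK : (P : Subgroup G) = K := by
    refine le_antisymm ?_ hKP
    obtain ⟨k, hk, hk1⟩ := (bot_or_exists_ne_one K).resolve_left hK1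
    have : Nontrivial (P : Subgroup G) :=
      ⟨⟨⟨k, hKP hk⟩, 1, fun e => hk1 (congrArg Subtype.val e)⟩⟩
    have := IsPGroup.center_nontrivial P.2
    obtain ⟨z, hz⟩ := exists_ne (1 : Subgroup.center (P : Subgroup G))
    have hz1 : ((z : (P : Subgroup G)) : G) ≠ 1 := fun e => hz (Subtype.ext (Subtype.ext e))
    have hcz : ∀ s ∈ (P : Subgroup G), s * ((z : (P : Subgroup G)) : G) = z * s :=
      fun s hs => congrArg Subtype.val (Subgroup.mem_center_iff.1 z.2 ⟨s, hs⟩)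
    have hzK : ((z : (P : Subgroup G)) : G) ∈ K :=
      hC k hk hk1 (mem_centralizer_singleton_iff.2 (hcz k (hKP hk)).symm)
    exact fun s hs => hC _ hzK hz1 (mem_centralizer_singleton_iff.2 (hcz s hs))
  have hna' : ¬ IsMulCommutative K := fun h => hna (ti_isMulCommutative_iff.2 h)
  rcases hp.eq_two_or_odd' with rfl | hpodd
  · refine Or.inr (Or.inl ⟨P, hPK, ?_⟩)
    set a := (⁅K, K⁆.subgroupOf K).index with ha
    have hlt₁ : ⁅K', K'⁆ < K' := derived_lt hnil' (ti_ne_bot hK1)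
    have hd := index_dvd_relIndex_sub_one le_rfl hlt₁.le (mem_of_commutator_mem hC' hlt₁.le)
      hlt₁.le le_rfl
    rw [ti_relIndex_derived, ← ha, ← he] at hd
    obtain ⟨j, -, hj⟩ := (Nat.dvd_prime_pow Nat.prime_two).1
      (hm ▸ index_dvd_card (⁅K, K⁆.subgroupOf K) : a ∣ 2 ^ m)
    have he1 : 1 < e := one_lt_index_of_ne_top (ti_ne_top hlt)
    rcases Nat.lt_or_ge a (4 * e ^ 2) with h | h
    · exact h
    exfalso
    rcases j with _ | j
    · rw [pow_zero] at hj; nlinarith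
    have hev : a = 4 * e ^ 2 := by
      rw [pow_succ] at hj
      obtain ⟨o, ho⟩ : ∃ o, a = 2 * o := ⟨2 ^ j, by rw [hj, mul_comm]⟩
      omega
    have h1 : e ∣ a - 1 := hd
    have h2 : e ∣ a := hev ▸ Dvd.intro (4 * e) (by ring)
    have h3 := Nat.dvd_sub h2 h1
    rw [Nat.sub_sub_self (show 1 ≤ a by rw [hev]; nlinarith)] at h3
    have := Nat.dvd_one.1 h3
    omega
  · refine Or.inr (Or.inr ⟨hcard, ti_sibley P hPK hTI hlt hC ?_ hna'⟩)
    rw [← (K').card_mul_index, ti_card, hm, ← he]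
    exact (hpodd.pow).mul hodde

omit [Fintype G] in
/-- The family as the set of characters not trivial on `K`. -/
theorem ti_set_eq (hC : ∀ k ∈ K, k ≠ 1 → centralizer ({k} : Set G) ≤ K) :
    inducedIrrAbove (K') (⊥ : Subgroup (NK)) =
      {χ : NK → ℂ | IsIrrCharacter (NK) χ ∧ ∃ k : NK, (k : G) ∈ K ∧ χ k ≠ χ 1} :=
  frob_set_eq (ti_cent_le hC)

/-- Exactly one character when `|K| = e + 1`. -/
theorem ti_card_family (hC : ∀ k ∈ K, k ≠ 1 → centralizer ({k} : Set G) ≤ K) (hK1 : K ≠ ⊥)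
    (hnil : Group.IsNilpotent K) (hcard : Nat.card K = (K').index + 1) :
    Nat.card {χ : NK → ℂ //
      IsIrrCharacter (NK) χ ∧ ∃ k : NK, (k : G) ∈ K ∧ χ k ≠ χ 1} = 1 := by
  classical
  have hC' := ti_cent_le hC
  have hnil' := ti_nilpotent hnil
  obtain ⟨hab, -⟩ := elementary_of_card_eq hC' hnil' (ti_ne_bot hK1) (by rw [ti_card]; exact hcard)
  set F := (inducedIrrAbove_finite (K := K') (A := (⊥ : Subgroup (NK)))).toFinset with hF
  have h := frob_sum_sq hC' (A := ⊥) bot_le (fun _ => (K').index) (by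
    intro φ hφ
    obtain ⟨θ, hθ, rfl⟩ := mem_inducedIrrAbove.1 hφ
    rw [indFun_apply_one, IsIrr.degree_one_of_isMulCommutative hθ.1, mul_one])
  rw [← hF, Finset.sum_const, smul_eq_mul, relIndex_bot_left, ti_card, hcard, Nat.add_sub_cancel,
    ← sq] at h
  have hpos : 0 < (K').index ^ 2 := pow_pos (Nat.pos_of_ne_zero (K').index_ne_zero_of_finite) 2
  have hF1 : F.card = 1 := Nat.eq_of_mul_eq_mul_right hpos (h.trans (one_mul _).symm)
  obtain ⟨φ, hφ⟩ := Finset.card_eq_one.1 hF1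
  rw [Nat.card_eq_one_iff_unique]
  have hmem : ∀ χ : NK → ℂ, (IsIrrCharacter (NK) χ ∧
      ∃ k : NK, (k : G) ∈ K ∧ χ k ≠ χ 1) ↔ χ = φ := by
    intro χ
    rw [← Finset.mem_singleton, ← hφ, hF, Set.Finite.mem_toFinset, ti_set_eq hC]
    exact Iff.rfl
  exact ⟨⟨fun a b => Subtype.ext (((hmem a).1 a.2).trans ((hmem b).1 b.2).symm)⟩,
    ⟨⟨φ, (hmem φ).2 rfl⟩⟩⟩

end Cfsg.Agent.OddChars
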