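import Cfsg.Agent.OddChars.KernelCoherence

/-!
# Peterfalvi (6.6): the characters nontrivial on a central subgroup
-/

set_option autoImplicit false

namespace Cfsg.Agent.OddChars

open Subgroup
open Cfsg.Agent.Char
open Cfsg.Agent.CharArith (charDegree_spec)

universe u v

variable {L : Type u} [Group L] [Fintype L] {K Z : Subgroup L}

/-- Some induced character is nontrivial on a nontrivial normal subgroup. -/
theorem exists_above_not_mem [K.Normal] [Z.Normal] (hZ1 : Z ≠ ⊥) (hZK : Z ≤ K) :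
    ∃ θ ∈ Above K ⊥, θ ∉ Above K Z := by
  by_contra h
  push Not at h
  have e : (above_finite (K := K) (A := ⊥)).toFinset = (above_finite (K := K) (A := Z)).toFinset := by
    ext θ
    simp only [Set.Finite.mem_toFinset]
    exact ⟨h θ, fun hθ => ⟨hθ.1, hθ.2.1, fun a ha => hθ.2.2 a (bot_le (a := Z) ha)⟩⟩
  have h1 := sum_sq_above (K := K) (A := ⊥) bot_le
  have h2 := sum_sq_above (K := K) (A := Z) hZK
  rw [e, h2] at h1
  have h3 := relIndex_mul_relIndex ⊥ Z K bot_le hZK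
  rw [← h1] at h3
  have hne : Z.relIndex K ≠ 0 := index_ne_zero_of_finite
  have h4 := (Nat.mul_eq_right hne).1 h3
  exact hZ1 (le_bot_iff.1 (relIndex_eq_one.1 h4))

/-- The induced characters outside `S(Z)`. -/
theorem mem_diff_iff [K.Normal] [Z.Normal] {φ : L → ℂ} :
    φ ∈ inducedIrrAbove K ⊥ \ inducedIrrAbove K Z ↔
      ∃ θ ∈ Above K ⊥, θ ∉ Above K Z ∧ φ = indFun K θ := by
  constructor
  · rintro ⟨h1, h2⟩
    obtain ⟨θ, hθ, rfl⟩ := mem_inducedIrrAbove.1 h1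
    exact ⟨θ, hθ, fun h => h2 (mem_inducedIrrAbove.2 ⟨θ, h, rfl⟩), rfl⟩
  · rintro ⟨θ, hθ, hn, rfl⟩
    refine ⟨mem_inducedIrrAbove.2 ⟨θ, hθ, rfl⟩, fun h => ?_⟩
    obtain ⟨η, hη, he⟩ := mem_inducedIrrAbove.1 h
    exact hn (above_orbit hη ((indFun_eq_iff hη.1 hθ.1).1 he.symm))

theorem diff_conj_mem {φ : L → ℂ} (h : φ ∈ inducedIrrAbove K ⊥ \ inducedIrrAbove K Z) :
    Cfsg.conjFun φ ∈ inducedIrrAbove K ⊥ \ inducedIrrAbove K Z :=
  ⟨inducedIrrAbove_conj_mem h.1, fun hc => h.2 (by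
    simpa [Coherence.conjFun_conjFun] using inducedIrrAbove_conj_mem hc)⟩

theorem diff_eq_irr_nontrivial [K.Normal] [Z.Normal] (hZK : Z ≤ K)
    (hirr : ∀ χ ∈ inducedIrrAbove K ⊥ \ inducedIrrAbove K Z, IsIrrCharacter L χ) :
    inducedIrrAbove K ⊥ \ inducedIrrAbove K Z =
      {χ | IsIrrCharacter L χ ∧ ∃ z ∈ Z, χ z ≠ χ 1} := by
  classical
  ext χ
  constructor
  · intro h
    have hχ := hirr χ h
    obtain ⟨θ, hθ, hn, rfl⟩ := mem_diff_iff.1 h
    refine ⟨hχ, by_contra fun hz => hn ⟨hθ.1, hθ.2.1, fun a ha => ?_⟩⟩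
    push Not at hz
    have hc : classInner (fun n : K => indFun K θ n) θ ≠ 0 := by
      rw [← classInner_indFun_right K θ (isClassFunction_of_isIrr hχ), classInner_irr_self hχ]
      exact one_ne_zero
    exact IsChar.constituent_kernel (isCharacter_res K (IsIrr.isCharacter hχ)) hθ.1 hc
      (by simpa using hz a ha)
  · rintro ⟨hχ, z, hzZ, hz⟩
    obtain ⟨θ, hθc, hθz⟩ : ∃ θ : IrrCharacter K, classInner (fun n : K => χ n) (θ : K → ℂ) ≠ 0 ∧
        (θ : K → ℂ) ⟨z, hZK hzZ⟩ ≠ (θ : K → ℂ) 1 := by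
      by_contra hno
      push Not at hno
      refine hz ?_
      have hexp := classFun_expansion (isClassFunction_of_isCharacter
        (isCharacter_res K (IsIrr.isCharacter hχ)))
      have h1 := congrFun hexp ⟨z, hZK hzZ⟩
      have h2 := congrFun hexp 1
      simp only [Finset.sum_apply, Pi.smul_apply, smul_eq_mul, OneMemClass.coe_one] at h1 h2
      rw [h1, h2]
      refine Finset.sum_congr rfl fun θ _ => ?_
      by_cases h : classInner (fun n : K => χ n) (θ : K → ℂ) = 0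
      · rw [h, zero_mul, zero_mul]
      · rw [hno θ h]
    have hne : (θ : K → ℂ) ≠ fun _ => 1 := fun e => hθz (by rw [e])
    have hmem : indFun K (θ : K → ℂ) ∈ inducedIrrAbove K ⊥ \ inducedIrrAbove K Z :=
      mem_diff_iff.2 ⟨θ, ⟨θ.2, hne, fun a ha => by
        rw [show a = 1 from Subtype.ext (mem_bot.1 ha)]⟩, fun h => hθz (h.2.2 _ hzZ), rfl⟩
    have hi := hirr _ hmem
    have : indFun K (θ : K → ℂ) = χ := by
      by_contra e
      refine hθc ?_
      rw [← classInner_indFun_right K (θ : K → ℂ) (isClassFunction_of_isIrr hχ),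
        classInner_irr_ne hχ hi (Ne.symm e)]
    exact this ▸ hmem

variable {G : Type v} [Group G] [Fintype G] {τ : (L → ℂ) → (G → ℂ)}
  {R : (L → ℂ) → Finset (G → ℂ)}

/-- Peterfalvi (6.6): coherence of `S \ S(Z)`. -/
theorem coherent_diff [K.Normal] [Z.Normal] (hsolv : Group.IsSolvable K)
    (hS : IsCoherenceSystem (inducedIrrAbove K ⊥) τ R) (hodd : Odd (Nat.card L))
    (hnil : Group.IsNilpotent K) (hH₁K : ⁅K, K⁆ < K) (hKL : K < ⊤)
    (hfrob : ∀ k ∈ K, k ∉ ⁅K, K⁆ → ∀ x : L, x * k * x⁻¹ * k⁻¹ ∈ ⁅K, K⁆ → x ∈ K)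
    (hZ1 : Z ≠ ⊥) (hZK : Z ≤ K) (hZc : ∀ z ∈ Z, ∀ k ∈ K, z * k = k * z)
    (hirr : ∀ χ ∈ inducedIrrAbove K ⊥ \ inducedIrrAbove K Z, IsIrrCharacter L χ) :
    IsCoherent (inducedIrrAbove K ⊥ \ inducedIrrAbove K Z) {1}ᶜ τ := by
  classical
  set T := inducedIrrAbove K ⊥ \ inducedIrrAbove K Z with hTdef
  have hTS : T ⊆ inducedIrrAbove K ⊥ := Set.sdiff_subset
  obtain ⟨θ₀, hθ₀, hθ₀Z⟩ := exists_above_not_mem hZ1 hZK
  have hTne : T.Nonempty := ⟨_, mem_diff_iff.2 ⟨θ₀, hθ₀, hθ₀Z, rfl⟩⟩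
  have hTc : ∀ χ ∈ T, Cfsg.conjFun χ ∈ T := fun χ => diff_conj_mem
  by_cases hpp : ∃ p m : ℕ, p.Prime ∧ (⊥ : Subgroup L).relIndex K = p ^ m
  swap
  · have := hnil
    exact coherent_subset hS le_rfl hTS hTne hTc (coherence_of_kernel (H₁ := ⁅K, K⁆) hsolv hS hodd ⊥
      bot_le (Group.nilpotent_of_surjective _ (QuotientGroup.mk'_surjective _)) (sup_bot_eq _).symm
      hH₁K hKL hfrob (Or.inr (Or.inr (Or.inl hpp))))
  obtain ⟨p, m, hp, hm⟩ := hpp
  rw [relIndex_bot_left] at hm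
  have hdvdK : ∀ {A : Subgroup L}, A.relIndex K ∣ p ^ m := fun {A} => hm ▸ relIndex_dvd_card A K
  have hrel1 : ⁅K, K⁆.relIndex K ≠ 1 := fun h => hH₁K.not_ge (relIndex_eq_one.1 h)
  obtain ⟨j, -, hj⟩ := (Nat.dvd_prime_pow hp).1 (hdvdK (A := ⁅K, K⁆))
  have hj0 : j ≠ 0 := fun h => hrel1 (by rw [hj, h, pow_zero])
  have hp3 : 3 ≤ p := by
    have : Odd (p ^ j) := hj ▸ hodd.of_dvd_nat
      ((relIndex_dvd_card _ _).trans K.card_subgroup_dvd_card)
    have := (Nat.odd_pow_iff hj0).1 this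
    obtain ⟨l, hl⟩ := this
    have := hp.two_le
    omega
  set e := K.index with he
  have he0 : 0 < e := Nat.pos_of_ne_zero K.index_ne_zero_of_finite
  have hcop : Nat.Coprime e p := by
    have hd := index_dvd_relIndex_sub_one le_rfl hH₁K.le hfrob hH₁K.le le_rfl
    rw [hj] at hd
    refine (hp.coprime_iff_not_dvd.2 fun h => hp.not_dvd_one ?_).symm
    have h1 : p ∣ p ^ j - 1 := h.trans hd
    have h2 := Nat.dvd_sub (dvd_pow_self p hj0) h1
    rwa [Nat.sub_sub_self (Nat.one_le_pow _ _ hp.pos)] at h2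
  -- the characters of `K` outside `Z`
  set Θ := (above_finite (K := K) (A := ⊥)).toFinset.filter (fun θ => θ ∉ Above K Z) with hΘ
  have hΘmem : ∀ θ, θ ∈ Θ ↔ θ ∈ Above K ⊥ ∧ θ ∉ Above K Z := by simp [hΘ]
  have hsumΘ : ∑ θ ∈ Θ, charDegree θ ^ 2 + Z.relIndex K = Nat.card K := by
    rw [← sum_sq_above hZK, ← relIndex_bot_left K, ← sum_sq_above (K := K) (A := ⊥) bot_le,
      ← Finset.sum_filter_add_sum_filter_not (above_finite (K := K) (A := ⊥)).toFinset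
        (fun θ => θ ∉ Above K Z), ← hΘ]
    have : ((above_finite (K := K) (A := ⊥)).toFinset.filter (fun θ => ¬ θ ∉ Above K Z)) =
        (above_finite (K := K) (A := Z)).toFinset := by
      ext θ
      simp only [not_not, Finset.mem_filter, Set.Finite.mem_toFinset]
      exact ⟨fun h => h.2, fun h => ⟨⟨h.1, h.2.1, fun a ha => h.2.2 a (bot_le (a := Z) ha)⟩, h⟩⟩
    rw [this]
    ring
  have hbound : ∀ θ ∈ Θ, charDegree θ ^ 2 ≤ Z.relIndex K := by
    intro θ hθ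
    have := degree_sq_le (B := ⊥) (C := K) (D := Z) bot_le hZK le_rfl (fun x hx y hy => by
      rw [mem_bot, hZc x hx y hy, mul_inv_cancel_right, mul_inv_cancel]) ((hΘmem θ).1 hθ).1.1
      ((hΘmem θ).1 hθ).1.2.2
    simpa using this
  have hpow : ∀ θ ∈ Θ, ∃ k ≤ m, charDegree θ = p ^ k := fun θ hθ =>
    (Nat.dvd_prime_pow hp).1 (hm ▸ IsIrr.degree_dvd_card ((hΘmem θ).1 hθ).1.1
      (charDegree_spec (IsIrr.isCharacter ((hΘmem θ).1 hθ).1.1)))
  obtain ⟨d, n, hd, hn⟩ := exists_deg_norm hS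
  have hdT : ∀ θ ∈ Θ, d (indFun K θ) = e * charDegree θ := by
    intro θ hθ
    have hθ' := ((hΘmem θ).1 hθ).1
    have h := hd _ (mem_inducedIrrAbove.2 ⟨θ, hθ', rfl⟩)
    rw [indFun_apply_one, charDegree_spec (IsIrr.isCharacter hθ'.1)] at h
    exact_mod_cast h.symm
  have hmaps : ∀ θ ∈ Θ, indFun K θ ∈ T := fun θ hθ =>
    mem_diff_iff.2 ⟨θ, ((hΘmem θ).1 hθ).1, ((hΘmem θ).1 hθ).2, rfl⟩
  have hTΘ : ∀ φ ∈ T, ∃ θ ∈ Θ, φ = indFun K θ := fun φ hφ => by
    obtain ⟨θ, h1, h2, rfl⟩ := mem_diff_iff.1 hφ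
    exact ⟨θ, (hΘmem θ).2 ⟨h1, h2⟩, rfl⟩
  have hn1 : ∀ φ ∈ T, n φ = 1 := fun φ hφ => by
    have h := hn φ (hTS hφ)
    rw [classInner_irr_self (hirr φ hφ)] at h
    exact_mod_cast h.symm
  have horb : ∀ θ ∈ Θ, (orbit (G := L) θ).card = e := fun θ hθ => by
    have h := classInner_indFun_self ((hΘmem θ).1 hθ).1.1 (K := K)
    rw [classInner_irr_self (hirr _ (hmaps θ hθ)), one_mul] at h
    exact_mod_cast h
  -- the family of characters of degree at most `e * p ^ k`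
  have hTfin : T.Finite := inducedIrrAbove_finite.subset hTS
  set F : ℕ → Finset (L → ℂ) := fun k => hTfin.toFinset.filter (fun φ => d φ ≤ e * p ^ k) with hF
  have hFmem : ∀ k φ, φ ∈ F k ↔ φ ∈ T ∧ d φ ≤ e * p ^ k := by simp [hF]
  have hFS : ∀ k, (↑(F k) : Set (L → ℂ)) ⊆ inducedIrrAbove K ⊥ := fun k φ hφ =>
    hTS ((hFmem k φ).1 hφ).1
  have hdconj : ∀ φ ∈ T, d (Cfsg.conjFun φ) = d φ := fun φ hφ => by
    have h := hd _ (hTS (hTc φ hφ))
    rw [Cfsg.conjFun, hd φ (hTS hφ), map_natCast] at h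
    exact_mod_cast h.symm
  have hFc : ∀ k, ∀ φ ∈ F k, Cfsg.conjFun φ ∈ F k := fun k φ hφ => by
    obtain ⟨h1, h2⟩ := (hFmem k φ).1 hφ
    exact (hFmem k _).2 ⟨hTc φ h1, (hdconj φ h1).trans_le h2⟩
  -- the least degree
  have hex : ∃ k, ∃ θ ∈ Θ, charDegree θ = p ^ k := by
    obtain ⟨k, -, hk⟩ := hpow θ₀ ((hΘmem θ₀).2 ⟨hθ₀, hθ₀Z⟩)
    exact ⟨k, θ₀, (hΘmem θ₀).2 ⟨hθ₀, hθ₀Z⟩, hk⟩
  obtain ⟨θ₁, hθ₁, hθ₁d⟩ := Nat.find_spec hex
  set k₀ := Nat.find hex
  set χ₁ := indFun K θ₁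
  have hχ₁ : ∀ k, k₀ ≤ k → χ₁ ∈ F k := fun k hk => (hFmem k _).2 ⟨hmaps θ₁ hθ₁, by
    rw [hdT θ₁ hθ₁, hθ₁d]
    exact Nat.mul_le_mul_left _ (Nat.pow_le_pow_right hp.pos hk)⟩
  -- the main induction
  have main : ∀ k, k₀ ≤ k → IsCoherent (↑(F k) : Set (L → ℂ)) {1}ᶜ τ := by
    intro k hk
    induction k, hk using Nat.le_induction with
    | base =>
      refine S1517.result _ τ R (system_subset hS (hFS k₀) ⟨χ₁, hχ₁ k₀ le_rfl⟩ (hFc k₀)) ?_
      have hdeg : ∀ φ ∈ F k₀, d φ = e * p ^ k₀ := by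
        intro φ hφ
        obtain ⟨h1, h2⟩ := (hFmem k₀ φ).1 hφ
        obtain ⟨θ, hθ, rfl⟩ := hTΘ φ h1
        obtain ⟨i, -, hi⟩ := hpow θ hθ
        have hki : k₀ ≤ i := Nat.find_min' hex ⟨θ, hθ, hi⟩
        rw [hdT θ hθ, hi] at h2 ⊢
        exact le_antisymm h2 (Nat.mul_le_mul_left _ (Nat.pow_le_pow_right hp.pos hki))
      intro φ hφ ψ hψ
      rw [hd φ (hFS _ hφ), hd ψ (hFS _ hψ), hdeg φ hφ, hdeg ψ hψ]
    | succ k hk ih =>
      by_cases hbig : ∃ θ ∈ Θ, charDegree θ = p ^ (k + 1)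
      swap
      · have : F (k + 1) = F k := by
          ext φ
          rw [hFmem, hFmem]
          refine and_congr_right fun hφ => ?_
          obtain ⟨θ, hθ, rfl⟩ := hTΘ φ hφ
          obtain ⟨i, -, hi⟩ := hpow θ hθ
          rw [hdT θ hθ, hi, Nat.mul_le_mul_left_iff he0, Nat.mul_le_mul_left_iff he0,
            Nat.pow_le_pow_iff_right hp.one_lt, Nat.pow_le_pow_iff_right hp.one_lt]
          refine ⟨fun h => ?_, fun h => by omega⟩
          rcases Nat.lt_or_ge i (k + 1) with h' | h'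
          · omega
          · exact absurd ⟨θ, hθ, by rw [hi, le_antisymm h h']⟩ hbig
        rw [this]; exact ih
      obtain ⟨θb, hθb, hθbd⟩ := hbig
      set Q := p ^ (2 * (k + 1)) with hQ
      set Θs := Θ.filter (fun θ => charDegree θ ≤ p ^ k) with hΘs
      -- divisibility by `Q`
      have hQdvd : Q ∣ ∑ θ ∈ Θs, charDegree θ ^ 2 := by
        have hle : Q ≤ Z.relIndex K := by
          have := hbound θb hθb
          rwa [hθbd, ← pow_mul, mul_comm] at this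
        obtain ⟨i, -, hi⟩ := (Nat.dvd_prime_pow hp).1 (hdvdK (A := Z))
        have hQi : Q ∣ Z.relIndex K := by
          rw [hi] at hle ⊢
          exact pow_dvd_pow p ((Nat.pow_le_pow_iff_right hp.one_lt).1 hle)
        have htot : Q ∣ ∑ θ ∈ Θ, charDegree θ ^ 2 := by
          have h1 : Q ∣ Nat.card K := hQi.trans (relIndex_dvd_card Z K)
          rw [← hsumΘ] at h1
          exact (Nat.dvd_add_left hQi).1 h1
        rw [← Finset.sum_filter_add_sum_filter_not Θ (fun θ => charDegree θ ≤ p ^ k), ← hΘs] at htot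
        refine (Nat.dvd_add_left (Finset.dvd_sum fun θ hθ => ?_)).1 htot
        obtain ⟨hθΘ, hθk⟩ := Finset.mem_filter.1 hθ
        obtain ⟨i, -, hi⟩ := hpow θ hθΘ
        rw [hi, Nat.pow_le_pow_iff_right hp.one_lt] at hθk
        rw [hi, ← pow_mul]
        exact pow_dvd_pow p (by omega)
      -- the orbits
      have hfib : ∀ φ ∈ F k, ∀ θ ∈ Θ, φ = indFun K θ →
          Θs.filter (fun η => indFun K η = φ) = orbit (G := L) θ := by
        intro φ hφ θ hθ hφθ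
        obtain ⟨hθA, hθZ⟩ := (hΘmem θ).1 hθ
        ext η
        rw [Finset.mem_filter]
        refine ⟨fun h => (indFun_eq_iff hθA.1 ((hΘmem η).1 (Finset.mem_filter.1 h.1).1).1.1).1
          (hφθ ▸ h.2).symm, fun h => ?_⟩
        have hηA := above_orbit hθA h
        have hηe : indFun K η = φ := hφθ ▸ ((indFun_eq_iff hθA.1 hηA.1).2 h).symm
        have hηΘ : η ∈ Θ := (hΘmem η).2 ⟨hηA, fun hz => ((hFmem k φ).1 hφ).1.2
          (mem_inducedIrrAbove.2 ⟨η, hz, hηe.symm⟩)⟩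
        refine ⟨Finset.mem_filter.2 ⟨hηΘ, ?_⟩, hηe⟩
        have := ((hFmem k φ).1 hφ).2
        rw [← hηe, hdT η hηΘ] at this
        exact Nat.le_of_mul_le_mul_left this he0
      have hmapsk : ∀ θ ∈ Θs, indFun K θ ∈ F k := fun θ hθ => by
        obtain ⟨h1, h2⟩ := Finset.mem_filter.1 hθ
        exact (hFmem k _).2 ⟨hmaps θ h1, by rw [hdT θ h1]; exact Nat.mul_le_mul_left _ h2⟩
      have hfibsum : ∀ φ ∈ F k, ∃ θ ∈ Θ, d φ = e * charDegree θ ∧
          ∑ η ∈ Θs.filter (fun η => indFun K η = φ), charDegree η ^ 2 = e * charDegree θ ^ 2 := by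
        intro φ hφ
        obtain ⟨θ, hθ, hφθ⟩ := hTΘ φ ((hFmem k φ).1 hφ).1
        refine ⟨θ, hθ, by rw [hφθ, hdT θ hθ], ?_⟩
        rw [hfib φ hφ θ hθ hφθ, Finset.sum_congr rfl fun η hη => show charDegree η ^ 2 = charDegree θ ^ 2 by
          obtain ⟨g, rfl⟩ := mem_orbit.1 hη
          simp [charDegree, conjFun_apply_one], Finset.sum_const, horb θ hθ, smul_eq_mul]
      set s := ∑ θ ∈ Θs, charDegree θ ^ 2 with hs
      have hse : s = ∑ φ ∈ F k, ∑ η ∈ Θs.filter (fun η => indFun K η = φ), charDegree η ^ 2 :=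
        (Finset.sum_fiberwise_of_maps_to hmapsk _).symm
      have hedvd : e ∣ s := by
        rw [hse]
        refine Finset.dvd_sum fun φ hφ => ?_
        obtain ⟨θ, -, -, h⟩ := hfibsum φ hφ
        exact h ▸ dvd_mul_right _ _
      have hdsum : ∑ φ ∈ F k, d φ ^ 2 = e * s := by
        rw [hse, Finset.mul_sum]
        refine Finset.sum_congr rfl fun φ hφ => ?_
        obtain ⟨θ, -, h1, h2⟩ := hfibsum φ hφ
        rw [h1, h2]; ring
      have hspos : 0 < s := by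
        refine Finset.sum_pos' (fun _ _ => Nat.zero_le _) ⟨θ₁, Finset.mem_filter.2 ⟨hθ₁, ?_⟩, ?_⟩
        · rw [hθ₁d]; exact Nat.pow_le_pow_right hp.pos hk
        · rw [hθ₁d]; exact pow_pos (pow_pos hp.pos _) 2
      have hsge : e * Q ≤ s :=
        Nat.le_of_dvd hspos ((Nat.Coprime.pow_right _ hcop).mul_dvd_of_dvd_of_dvd hedvd hQdvd)
      obtain ⟨T', -, hU, hT'S, -, hcoh⟩ := coherent_absorb hS d n hd hn (F k) (hFS k) (hFc k) ih χ₁
        (hχ₁ k hk) (F (k + 1)) (hFS (k + 1)) (by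
          intro χ hχ hnot
          obtain ⟨hχT, hle⟩ := (hFmem _ χ).1 hχ
          obtain ⟨θ, hθ, rfl⟩ := hTΘ χ hχT
          obtain ⟨i, -, hi⟩ := hpow θ hθ
          rw [hdT θ hθ, hi, Nat.mul_le_mul_left_iff he0, Nat.pow_le_pow_iff_right hp.one_lt] at hle
          have hik : i = k + 1 := by
            by_contra hne
            refine hnot ((hFmem k _).2 ⟨hχT, ?_⟩)
            rw [hdT θ hθ, hi]
            exact Nat.mul_le_mul_left _ (Nat.pow_le_pow_right hp.pos (by omega))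
          rw [hdT θ hθ, hi, hdT θ₁ hθ₁, hθ₁d, hik]
          refine ⟨Nat.mul_dvd_mul_left _ (pow_dvd_pow p (by omega)), ?_⟩
          have hsum : ∑ φ ∈ F k, ((d φ : ℝ) ^ 2 / (n φ : ℝ)) = ((∑ φ ∈ F k, d φ ^ 2 : ℕ) : ℝ) := by
            push_cast
            refine Finset.sum_congr rfl fun φ hφ => ?_
            rw [hn1 φ ((hFmem k φ).1 hφ).1, Nat.cast_one, div_one]
          rw [hsum, hdsum]
          have key : 2 * (e * p ^ (k + 1)) * (e * p ^ k₀) < e * s := by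
            refine lt_of_lt_of_le ?_ (Nat.mul_le_mul_left e hsge)
            have hA : 2 * p ^ k₀ < p ^ (k + 1) := by
              calc 2 * p ^ k₀ < p * p ^ k₀ := Nat.mul_lt_mul_of_pos_right (by omega) (pow_pos hp.pos _)
                _ = p ^ (k₀ + 1) := by rw [pow_succ, mul_comm]
                _ ≤ p ^ (k + 1) := Nat.pow_le_pow_right hp.pos (by omega)
            calc 2 * (e * p ^ (k + 1)) * (e * p ^ k₀) = e * (e * (p ^ (k + 1) * (2 * p ^ k₀))) := by ring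
              _ < e * (e * (p ^ (k + 1) * p ^ (k + 1))) :=
                Nat.mul_lt_mul_of_pos_left (Nat.mul_lt_mul_of_pos_left
                  (Nat.mul_lt_mul_of_pos_left hA (pow_pos hp.pos _)) he0) he0
              _ = e * (e * Q) := by rw [hQ, ← pow_add, two_mul]
          exact_mod_cast key)
      exact coherent_subset hS hT'S (fun φ hφ => hU hφ) ⟨χ₁, hχ₁ (k + 1) (by omega)⟩ (hFc (k + 1)) hcoh
  have hfinal : (↑(F (max k₀ m)) : Set (L → ℂ)) = T := by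
    ext φ
    rw [Finset.mem_coe, hFmem]
    refine ⟨fun h => h.1, fun h => ⟨h, ?_⟩⟩
    obtain ⟨θ, hθ, rfl⟩ := hTΘ φ h
    obtain ⟨i, him, hi⟩ := hpow θ hθ
    rw [hdT θ hθ, hi]
    exact Nat.mul_le_mul_left _ (Nat.pow_le_pow_right hp.pos (him.trans (le_max_right _ _)))
  exact hfinal ▸ main _ (le_max_left _ _)

end Cfsg.Agent.OddChars
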