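import Cfsg.Agent.OddChars.InducedFamily
import Cfsg.Agent.S1516
import Cfsg.Agent.S1517

/-!
# Enlarging coherent families (Peterfalvi 6.3)
-/

set_option autoImplicit false

namespace Cfsg.Agent.OddChars

universe u v

variable {L : Type u} [Group L] [Fintype L] {G : Type v} [Group G] [Fintype G]
  {S : Set (L → ℂ)} {τ : (L → ℂ) → (G → ℂ)} {R : (L → ℂ) → Finset (G → ℂ)}

/-- A coherence system restricts to a nonempty subset closed under conjugation. -/
theorem system_subset (hS : IsCoherenceSystem S τ R) {T : Set (L → ℂ)} (hT : T ⊆ S)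
    (hne : T.Nonempty) (hc : ∀ χ ∈ T, conjFun χ ∈ T) : IsCoherenceSystem T τ R :=
  { nonempty := hne
    isCharacter := fun χ hχ => hS.isCharacter χ (hT hχ)
    conj_mem := hc
    conj_ne := fun χ hχ => hS.conj_ne χ (hT hχ)
    isometry := Coherence.IsLinearIsometryOn.mono hS.isometry (Coherence.zspanOn_mono hT)
    map_one := fun α hα => hS.map_one α (Coherence.zspanOn_mono hT hα)
    orthogonal := fun χ hχ φ hφ => hS.orthogonal χ (hT hχ) φ (hT hφ)
    orthonormal := fun χ hχ => hS.orthonormal χ (hT hχ)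
    virtual := fun χ hχ => hS.virtual χ (hT hχ)
    sum_eq := fun χ hχ => hS.sum_eq χ (hT hχ)
    disjoint := fun χ hχ φ hφ => hS.disjoint χ (hT hχ) φ (hT hφ) }

/-- Coherence passes to a nonempty subset closed under conjugation. -/
theorem coherent_subset (hS : IsCoherenceSystem S τ R) {T U : Set (L → ℂ)} (hT : T ⊆ S)
    (hU : U ⊆ T) (hne : U.Nonempty) (hc : ∀ χ ∈ U, conjFun χ ∈ U)
    (hcoh : IsCoherent T {1}ᶜ τ) : IsCoherent U {1}ᶜ τ := by
  obtain ⟨-, τ₁, hτ₁, hag⟩ := hcoh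
  obtain ⟨χ, hχ⟩ := hne
  refine ⟨⟨χ - conjFun χ, Coherence.sub_conjFun_mem (hS.isCharacter χ (hT (hU hχ))) hχ (hc χ hχ), ?_⟩,
    τ₁, Coherence.IsLinearIsometryOn.mono hτ₁ (Coherence.zspan_mono hU),
    fun α hα => hag α (Coherence.zspanOn_mono hU hα)⟩
  exact sub_ne_zero.2 fun e => hS.conj_ne χ (hT (hU hχ)) e.symm

/-- Absorbing characters of small degree into a coherent family. -/
theorem coherent_absorb (hS : IsCoherenceSystem S τ R) (d n : (L → ℂ) → ℕ)
    (hd : ∀ φ ∈ S, φ 1 = (d φ : ℂ)) (hn : ∀ φ ∈ S, classInner φ φ = (n φ : ℂ))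
    (T : Finset (L → ℂ)) (hT : ↑T ⊆ S) (hTc : ∀ φ ∈ T, conjFun φ ∈ T)
    (hcoh : IsCoherent (↑T : Set (L → ℂ)) {1}ᶜ τ) (χ₁ : L → ℂ) (hχ₁ : χ₁ ∈ T)
    (U : Finset (L → ℂ)) (hU : ↑U ⊆ S)
    (hsmall : ∀ χ ∈ U, χ ∉ T → d χ₁ ∣ d χ ∧
      (2 * d χ * d χ₁ : ℝ) < ∑ φ ∈ T, ((d φ : ℝ) ^ 2 / (n φ : ℝ))) :
    ∃ T' : Finset (L → ℂ), T ⊆ T' ∧ U ⊆ T' ∧ ↑T' ⊆ S ∧ (∀ φ ∈ T', conjFun φ ∈ T') ∧
      IsCoherent (↑T' : Set (L → ℂ)) {1}ᶜ τ := by
  classical
  induction U using Finset.induction with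
  | empty => exact ⟨T, le_rfl, by simp, hT, hTc, hcoh⟩
  | @insert χ U _ ih =>
    rw [Finset.coe_insert, Set.insert_subset_iff] at hU
    obtain ⟨T', hTT', hUT', hT'S, hT'c, hcoh'⟩ :=
      ih hU.2 fun φ hφ => hsmall φ (Finset.mem_insert_of_mem hφ)
    by_cases hχ : χ ∈ T'
    · exact ⟨T', hTT', Finset.insert_subset hχ hUT', hT'S, hT'c, hcoh'⟩
    have hχc : conjFun χ ∉ T' := fun h => hχ (by
      simpa [Coherence.conjFun_conjFun] using hT'c _ h)
    obtain ⟨hdvd, hlt⟩ := hsmall χ (Finset.mem_insert_self _ _) fun h => hχ (hTT' h)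
    have hle : ∑ φ ∈ T, ((d φ : ℝ) ^ 2 / (n φ : ℝ)) ≤ ∑ φ ∈ T', ((d φ : ℝ) ^ 2 / (n φ : ℝ)) :=
      Finset.sum_le_sum_of_subset_of_nonneg hTT' fun φ _ _ => by positivity
    have key := S1516.result S τ R hS d n hd hn T' hT'S hT'c hcoh' χ hU.1 hχ hχc χ₁
      (hTT' hχ₁) hdvd (hlt.trans_le hle)
    refine ⟨T' ∪ {χ, conjFun χ}, hTT'.trans Finset.subset_union_left, ?_, ?_, ?_, ?_⟩
    · intro φ hφ
      rcases Finset.mem_insert.1 hφ with rfl | h
      · simp
      · exact Finset.mem_union_left _ (hUT' h)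
    · intro φ hφ
      simp only [Finset.coe_union, Finset.coe_insert, Finset.coe_singleton, Set.mem_union,
        Set.mem_insert_iff, Set.mem_singleton_iff] at hφ
      rcases hφ with h | rfl | rfl
      · exact hT'S h
      · exact hU.1
      · exact hS.conj_mem χ hU.1
    · intro φ hφ
      simp only [Finset.mem_union, Finset.mem_insert, Finset.mem_singleton] at hφ ⊢
      rcases hφ with h | rfl | rfl
      · exact Or.inl (hT'c φ h)
      · exact Or.inr (Or.inr rfl)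
      · exact Or.inr (Or.inl (Coherence.conjFun_conjFun χ))
    · simpa using key

/-- Degrees and norms in a coherence system are natural numbers. -/
theorem exists_deg_norm (hS : IsCoherenceSystem S τ R) :
    ∃ d n : (L → ℂ) → ℕ, (∀ φ ∈ S, φ 1 = (d φ : ℂ)) ∧ ∀ φ ∈ S, classInner φ φ = (n φ : ℂ) := by
  classical
  refine ⟨fun φ => if h : φ ∈ S then (Char.IsChar.degree (hS.isCharacter φ h)).choose else 0,
    fun φ => if h : φ ∈ S then
      (Coherence.classInner_self_natCast (hS.isCharacter φ h)).choose else 0, fun φ h => ?_, fun φ h => ?_⟩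
  · simp only [dif_pos h]
    exact (Char.IsChar.degree (hS.isCharacter φ h)).choose_spec
  · simp only [dif_pos h]
    exact (Coherence.classInner_self_natCast (hS.isCharacter φ h)).choose_spec

/-- Peterfalvi (6.3). -/
theorem coherence_descends (K : Subgroup L) [K.Normal] (hsolv : Group.IsSolvable K)
    (hS : IsCoherenceSystem (inducedIrrAbove K ⊥) τ R) (A B C D : Subgroup L) [A.Normal]
    [B.Normal] [C.Normal] [D.Normal] (hAK : A < K) (hBK : B < K) (hBD : B ≤ D) (hDC : D ≤ C)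
    (hCK : C ≤ K) (hcent : ∀ x ∈ D, ∀ y ∈ C, x * y * x⁻¹ * y⁻¹ ∈ B)
    (hA : IsCoherent (inducedIrrAbove K A) {1}ᶜ τ)
    (hlt : 4 * C.index ^ 2 * D.relIndex C < (A.relIndex K - 1) ^ 2) :
    IsCoherent (inducedIrrAbove K B) {1}ᶜ τ := by
  classical
  obtain ⟨d, n, hd, hn⟩ := exists_deg_norm hS
  have hsub : ∀ X : Subgroup L, inducedIrrAbove K X ⊆ inducedIrrAbove K ⊥ := fun X =>
    inducedIrrAbove_subset_bot
  obtain ⟨θ₁, hθ₁, hθ₁1⟩ := exists_linear_above (A := A) hsolv hAK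
  obtain ⟨θ₂, hθ₂, -⟩ := exists_linear_above (A := B) hsolv hBK
  set T := (inducedIrrAbove_finite (K := K) (A := A)).toFinset
  have hTcoe : (↑T : Set (L → ℂ)) = inducedIrrAbove K A := Set.Finite.coe_toFinset _
  have h1mem : indFun K θ₁ ∈ inducedIrrAbove K A := mem_inducedIrrAbove.2 ⟨θ₁, hθ₁, rfl⟩
  have hd1 : d (indFun K θ₁) = K.index := by
    have h := hd _ (hsub A h1mem)
    rw [Char.indFun_apply_one, hθ₁1, mul_one] at h
    exact_mod_cast h.symm
  have hsum := sum_family (A := A) hAK.le d n (fun φ h => hd φ (hsub A h)) (fun φ h => hn φ (hsub A h))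
  obtain ⟨T', -, hU, hT'S, -, hcoh⟩ := coherent_absorb hS d n hd hn T (hTcoe ▸ hsub A)
    (fun φ hφ => (Set.Finite.mem_toFinset _).2 (inducedIrrAbove_conj_mem ((Set.Finite.mem_toFinset _).1 hφ)))
    (hTcoe ▸ hA) (indFun K θ₁) ((Set.Finite.mem_toFinset _).2 h1mem)
    (inducedIrrAbove_finite (K := K) (A := B)).toFinset (by rw [Set.Finite.coe_toFinset]; exact hsub B) (by
      intro χ hχ _
      have hmem := (Set.Finite.mem_toFinset _).1 hχ
      obtain ⟨θ, hθ, rfl⟩ := mem_inducedIrrAbove.1 hmem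
      have hdχ : d (indFun K θ) = K.index * charDegree θ := by
        have h := hd _ (hsub B hmem)
        rw [Char.indFun_apply_one, CharArith.charDegree_spec (Char.IsIrr.isCharacter hθ.1)] at h
        exact_mod_cast h.symm
      refine ⟨by rw [hd1, hdχ]; exact dvd_mul_right _ _, ?_⟩
      rw [hd1, hdχ, hsum]
      have hb := degree_sq_le (B := B) hBD hDC hCK hcent hθ.1 hθ.2.2
      have hCi : C.relIndex K * K.index = C.index := Subgroup.relIndex_mul_index hCK
      have h2 : (2 * (K.index * charDegree θ)) ^ 2 < (A.relIndex K - 1) ^ 2 := by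
        refine lt_of_le_of_lt ?_ hlt
        rw [← hCi]
        calc (2 * (K.index * charDegree θ)) ^ 2 = 4 * K.index ^ 2 * charDegree θ ^ 2 := by ring
          _ ≤ 4 * K.index ^ 2 * (C.relIndex K ^ 2 * D.relIndex C) := Nat.mul_le_mul_left _ hb
          _ = _ := by ring
      have h3 := lt_of_pow_lt_pow_left' 2 h2
      have h4 : (2 * (K.index * charDegree θ) + 1 : ℕ) < A.relIndex K := by omega
      have h5 : (2 * ((K.index : ℝ) * charDegree θ) + 1) < A.relIndex K := by exact_mod_cast h4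
      have hpos : (0 : ℝ) < K.index := by
        exact_mod_cast Nat.pos_of_ne_zero K.index_ne_zero_of_finite
      push_cast
      calc 2 * ((K.index : ℝ) * charDegree θ) * K.index
          = (K.index : ℝ) * (2 * ((K.index : ℝ) * charDegree θ)) := by ring
        _ < _ := by gcongr; linarith)
  exact coherent_subset hS hT'S (fun φ hφ => hU ((Set.Finite.mem_toFinset _).2 hφ))
    ⟨_, mem_inducedIrrAbove.2 ⟨θ₂, hθ₂, rfl⟩⟩ (fun φ => inducedIrrAbove_conj_mem) hcoh

end Cfsg.Agent.OddChars
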