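import Cfsg.Agent.OddChars.CentralKernel
import Cfsg.Agent.OddChars.IrrCriteria
import Cfsg.Agent.Coherence.FrobKernel
import Cfsg.Agent.Core.Solvable
import Mathlib.GroupTheory.CommutingProbability

/-!
# Coherence for Frobenius groups (Feit)
-/

set_option autoImplicit false

namespace Cfsg.Agent.OddChars

open Subgroup
open Cfsg.Agent.Char
open Cfsg.Agent.CharArith (charDegree_spec)
open scoped commutatorElement

universe u v

variable {L : Type u} [Group L] [Fintype L] {K A : Subgroup L}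

theorem charDegree_pos {θ : K → ℂ} (hθ : IsIrrCharacter K θ) : 0 < charDegree θ := by
  refine Nat.pos_of_ne_zero fun h => IsIrr.one_ne_zero hθ ?_
  rw [charDegree_spec (IsIrr.isCharacter hθ), h, Nat.cast_zero]

variable [K.Normal]

theorem above_self_empty {θ : K → ℂ} : θ ∉ Above K K := by
  intro h
  have h1 := sum_sq_above (K := K) (A := K) le_rfl
  rw [relIndex_self] at h1
  have h2 := (Finset.sum_eq_zero_iff (s := (above_finite (K := K) (A := K)).toFinset)
    (f := fun θ => charDegree θ ^ 2)).1 (by omega) θ ((Set.Finite.mem_toFinset _).2 h)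
  have := charDegree_pos h.1
  simp at h2
  omega

section Frob

variable (hC : ∀ h ∈ K, h ≠ 1 → centralizer ({h} : Set L) ≤ K)

include hC

theorem frob_irr {χ : L → ℂ} (hχ : χ ∈ inducedIrrAbove K A) : IsIrrCharacter L χ := by
  obtain ⟨θ, hθ, rfl⟩ := mem_inducedIrrAbove.1 hχ
  exact Coherence.FrobKernel.irr_ind hC hθ.1 hθ.2.1

theorem frob_set_eq : inducedIrrAbove K ⊥ = {χ | IsIrrCharacter L χ ∧ ∃ h ∈ K, χ h ≠ χ 1} := by
  rw [← diff_eq_irr_nontrivial (Z := K) le_rfl fun χ hχ => frob_irr hC hχ.1]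
  refine Set.ext fun χ => ⟨fun h => ⟨h, fun hχ => ?_⟩, fun h => h.1⟩
  obtain ⟨θ, hθ, -⟩ := mem_inducedIrrAbove.1 hχ
  exact above_self_empty hθ

/-- In a quotient of the kernel the action stays fixed-point-free. -/
theorem mem_of_commutator_mem [A.Normal] (hAK : A ≤ K) :
    ∀ k ∈ K, k ∉ A → ∀ x : L, x * k * x⁻¹ * k⁻¹ ∈ A → x ∈ K := by
  intro k hk hkA x hx
  by_contra hxK
  have hinj : Function.Injective fun h : K => x * (h : L) * x⁻¹ * (h : L)⁻¹ := by
    intro a b hab
    simp only at hab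
    have h1 : x * ((b : L)⁻¹ * a) = ((b : L)⁻¹ * a) * x := by
      calc x * ((b : L)⁻¹ * a) = x * (b : L)⁻¹ * x⁻¹ * (x * a * x⁻¹ * (a : L)⁻¹) * a * x := by group
        _ = x * (b : L)⁻¹ * x⁻¹ * (x * b * x⁻¹ * (b : L)⁻¹) * a * x := by rw [hab]
        _ = ((b : L)⁻¹ * a) * x := by group
    exact (Subtype.ext (inv_mul_eq_one.1 (Coherence.FrobKernel.eq_one_of_comm hC hxK
      (K.mul_mem (K.inv_mem b.2) a.2) h1))).symm
  let f : A → A := fun a => ⟨x * (a : L) * x⁻¹ * (a : L)⁻¹,
    A.mul_mem ((inferInstance : A.Normal).conj_mem _ a.2 x) (A.inv_mem a.2)⟩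
  have hf : Function.Surjective f := Finite.surjective_of_injective fun a b hab =>
    Subtype.ext (congrArg (fun h : K => (h : L))
      (hinj (a₁ := ⟨a, hAK a.2⟩) (a₂ := ⟨b, hAK b.2⟩) (congrArg Subtype.val hab)))
  obtain ⟨a, ha⟩ := hf ⟨_, hx⟩
  have : (a : L) = k := congrArg (fun h : K => (h : L))
    (hinj (a₁ := ⟨a, hAK a.2⟩) (a₂ := ⟨k, hk⟩) (congrArg Subtype.val ha))
  exact hkA (this ▸ a.2)

/-- The sum of the squared degrees in the family. -/
theorem frob_sum_sq [A.Normal] (hAK : A ≤ K) (d : (L → ℂ) → ℕ)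
    (hd : ∀ φ ∈ inducedIrrAbove K A, φ 1 = (d φ : ℂ)) :
    ∑ φ ∈ (inducedIrrAbove_finite (K := K) (A := A)).toFinset, d φ ^ 2 =
      K.index * (A.relIndex K - 1) := by
  classical
  have h := sum_family (A := A) hAK d (fun _ => 1) hd
    fun φ hφ => by rw [classInner_irr_self (frob_irr hC hφ), Nat.cast_one]
  simp only [Nat.cast_one, div_one] at h
  have h1 : 1 ≤ A.relIndex K := Nat.one_le_iff_ne_zero.2 index_ne_zero_of_finite
  have h2 : ((∑ φ ∈ (inducedIrrAbove_finite (K := K) (A := A)).toFinset, d φ ^ 2 : ℕ) : ℝ) =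
      ((K.index * (A.relIndex K - 1) : ℕ) : ℝ) := by
    push_cast [h1]
    exact h
  exact_mod_cast h2

/-- The family has a second member unless `[K : A] = e + 1`. -/
theorem frob_two_members [A.Normal] (hsolv : Group.IsSolvable K) (hAK : A < K)
    (hne : A.relIndex K ≠ K.index + 1) :
    ∃ χ ∈ inducedIrrAbove K A, ∃ ψ ∈ inducedIrrAbove K A, χ ≠ ψ := by
  classical
  obtain ⟨θ, hθ, hθ1⟩ := exists_linear_above (A := A) hsolv hAK
  by_contra hno
  push Not at hno
  have hmem : indFun K θ ∈ inducedIrrAbove K A := mem_inducedIrrAbove.2 ⟨θ, hθ, rfl⟩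
  set d : (L → ℂ) → ℕ := fun _ => K.index
  have hd : ∀ φ ∈ inducedIrrAbove K A, φ 1 = (d φ : ℂ) := fun φ hφ => by
    rw [hno φ hφ _ hmem, indFun_apply_one, hθ1, mul_one]
  have h := frob_sum_sq hC hAK.le d hd
  rw [show (inducedIrrAbove_finite (K := K) (A := A)).toFinset = {indFun K θ} from
    Finset.eq_singleton_iff_unique_mem.2 ⟨(Set.Finite.mem_toFinset _).2 hmem,
      fun φ hφ => hno φ ((Set.Finite.mem_toFinset _).1 hφ) _ hmem⟩, Finset.sum_singleton, sq] at h
  have h1 := Nat.eq_of_mul_eq_mul_left (Nat.pos_of_ne_zero K.index_ne_zero_of_finite) h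
  have h2 : 1 ≤ A.relIndex K := Nat.one_le_iff_ne_zero.2 index_ne_zero_of_finite
  exact hne (by simp only [d] at h1; omega)

/-- An even complement order forces an abelian kernel. -/
theorem commutative_of_even (he : Even K.index) : IsMulCommutative K := by
  obtain ⟨t, ht⟩ := exists_prime_orderOf_dvd_card' (G := L) 2
    ((even_iff_two_dvd.1 he).trans K.index_dvd_card)
  have htK : t ∉ K := fun h => by
    have h1 : 2 ∣ Nat.card K := ht ▸ orderOf_dvd_natCard _ h
    exact absurd (Nat.eq_one_of_dvd_coprimes (Coherence.FrobKernel.coprime_index hC) h1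
      (even_iff_two_dvd.1 he)) (by norm_num)
  have ht2 : t * t = 1 := by rw [← sq, ← ht, pow_orderOf_eq_one]
  let φ : MulAut K := MulAut.conjNormal t
  have hfpf : MonoidHom.FixedPointFree φ := fun h hh => by
    have := congrArg Subtype.val hh
    rw [MulAut.conjNormal_apply, mul_inv_eq_iff_eq_mul] at this
    exact Subtype.ext (Coherence.FrobKernel.eq_one_of_comm hC htK h.2 this)
  have hinv : Function.Involutive φ := fun h => by
    apply Subtype.ext
    simp only [φ, MulAut.conjNormal_apply]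
    calc t * (t * (h : L) * t⁻¹) * t⁻¹ = (t * t) * h * (t * t)⁻¹ := by group
      _ = h := by rw [ht2]; simp
  exact ⟨⟨fun a b => MonoidHom.FixedPointFree.commute_all_of_involutive hfpf hinv a b⟩⟩

end Frob

omit [Fintype L] [K.Normal] in
theorem commutator_eq_bot_iff_comm : ⁅K, K⁆ = ⊥ ↔ IsMulCommutative K := by
  rw [eq_bot_iff, commutator_le]
  constructor
  · intro h
    refine ⟨⟨fun a b => Subtype.ext ?_⟩⟩
    have := h a a.2 b b.2
    rw [mem_bot, commutatorElement_eq_one_iff_mul_comm] at this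
    exact this
  · intro h a ha b hb
    rw [mem_bot, commutatorElement_eq_one_iff_mul_comm]
    exact congrArg Subtype.val (h.is_comm.comm (⟨a, ha⟩ : K) ⟨b, hb⟩)

omit [Fintype L] [K.Normal] in
theorem derived_lt (hnil : Group.IsNilpotent K) (hK1 : K ≠ ⊥) : ⁅K, K⁆ < K := by
  have := hnil
  have : Nontrivial K := (nontrivial_iff_ne_bot K).2 hK1
  refine lt_of_le_of_ne (commutator_le_self K) fun e => ?_
  have h := (Group.IsSolvable.commutator_lt_top_of_nontrivial K).ne
  refine h (map_injective K.subtype_injective ?_)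
  rw [map_subtype_commutator, e, ← MonoidHom.range_eq_map, range_subtype]

section Frob

variable (hC : ∀ h ∈ K, h ≠ 1 → centralizer ({h} : Set L) ≤ K)
include hC

/-- A kernel of order `e + 1` is elementary abelian. -/
theorem elementary_of_card_eq (hnil : Group.IsNilpotent K) (hK1 : K ≠ ⊥)
    (hcard : Nat.card K = K.index + 1) :
    IsMulCommutative K ∧ ∃ p : ℕ, p.Prime ∧ ∀ a ∈ K, a ^ p = 1 := by
  classical
  have hlt := derived_lt hnil hK1
  have hd := index_dvd_relIndex_sub_one le_rfl hlt.le (mem_of_commutator_mem hC hlt.le) hlt.le le_rfl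
  have hab : ⁅K, K⁆ = ⊥ := by
    have h1 : ⁅K, K⁆.relIndex K ≠ 1 := fun h => hlt.not_ge (relIndex_eq_one.1 h)
    have h0 : ⁅K, K⁆.relIndex K ≠ 0 := index_ne_zero_of_finite
    have h2 := Nat.le_of_dvd (by omega) hd
    have h3 := relIndex_mul_relIndex ⊥ ⁅K, K⁆ K bot_le hlt.le
    rw [relIndex_bot_left, relIndex_bot_left] at h3
    have h4 : Nat.card ↥⁅K, K⁆ * ⁅K, K⁆.relIndex K ≤ 1 * ⁅K, K⁆.relIndex K := by omega
    exact eq_bot_of_card_le _ (Nat.le_of_mul_le_mul_right h4 (by omega))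
  refine ⟨commutator_eq_bot_iff_comm.1 hab, ?_⟩
  obtain ⟨p, hp, hpd⟩ := Nat.exists_prime_and_dvd
    (fun h => hK1 (card_eq_one.1 h) : Nat.card K ≠ 1)
  haveI := Fact.mk hp
  obtain ⟨z, hz⟩ := exists_prime_orderOf_dvd_card' (G := K) p hpd
  have hz1 : (z : L) ≠ 1 := fun h => hp.ne_one (by rw [← hz, ← orderOf_coe, h, orderOf_one])
  have hcent : centralizer ({(z : L)} : Set L) = K := le_antisymm (hC z z.2 hz1) fun k hk => by
    rw [mem_centralizer_singleton_iff]
    exact congrArg Subtype.val ((commutator_eq_bot_iff_comm.1 hab).is_comm.comm (⟨k, hk⟩ : K) z)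
  have hsub : Finset.univ.filter (fun x : L => IsConj (z : L) x) ⊆
      Finset.univ.filter (fun x : L => x ∈ K ∧ x ≠ 1) := by
    intro x hx
    simp only [Finset.mem_filter, Finset.mem_univ, true_and] at hx ⊢
    obtain ⟨g, rfl⟩ := isConj_iff.1 hx
    exact ⟨(inferInstance : K.Normal).conj_mem _ z.2 g, fun e => hz1 (conj_eq_one_iff.1 e)⟩
  have hc1 : (Finset.univ.filter (fun x : L => IsConj (z : L) x)).card = K.index := by
    rw [← congrArg Subgroup.index hcent, ← card_isConj_eq_index, Nat.card_eq_fintype_card,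
      Fintype.card_subtype]
  have hc2 : (Finset.univ.filter (fun x : L => x ∈ K ∧ x ≠ 1)).card = K.index := by
    have : Finset.univ.filter (fun x : L => x ∈ K ∧ x ≠ 1) =
        (Finset.univ.filter (fun x : L => x ∈ K)).erase 1 := by
      ext; simp [and_comm]
    rw [this, Finset.card_erase_of_mem (by simp), ← Fintype.card_subtype, ← Nat.card_eq_fintype_card]
    exact (Nat.sub_eq_iff_eq_add Nat.card_pos).2 hcard
  have heq := Finset.eq_of_subset_of_card_le hsub (hc2.trans hc1.symm).le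
  refine ⟨p, hp, fun a ha => ?_⟩
  by_cases ha1 : a = 1
  · simp [ha1]
  have : a ∈ Finset.univ.filter (fun x : L => IsConj (z : L) x) := by
    rw [heq]; simp [ha, ha1]
  obtain ⟨g, rfl⟩ := isConj_iff.1 (Finset.mem_filter.1 this).2
  rw [conj_pow, ← hz, ← orderOf_coe, pow_orderOf_eq_one, mul_one, mul_inv_cancel]

/-- A kernel which is not a `p`-group has a large abelianisation. -/
theorem relIndex_ge_of_two_primes (hnil : Group.IsNilpotent K) (hK1 : K ≠ ⊥) (hodde : Odd K.index)
    (hK2 : K ≠ ⊤) (hnp : ¬ ∃ p m : ℕ, p.Prime ∧ Nat.card K = p ^ m) :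
    2 * K.index ^ 2 + 2 ≤ ⁅K, K⁆.relIndex K ∧
      ∀ r : ℕ, r.Prime → ∃ s : ℕ, s.Prime ∧ s ≠ r ∧ s ∣ ⁅K, K⁆.relIndex K := by
  classical
  have := hnil
  set H₁ := ⁅K, K⁆ with hH₁
  have hlt : H₁ < K := derived_lt hnil hK1
  set n := H₁.relIndex K with hn
  have hn0 : n ≠ 0 := index_ne_zero_of_finite
  have hindex : (commutator K).index = n := by
    rw [hn, relIndex, subgroupOf, hH₁, ← map_subtype_commutator K, comap_map_eq_self_of_injective K.subtype_injective]
  have hnpow : ∀ r : ℕ, r.Prime → ∀ j, n ≠ r ^ j := by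
    intro r hr j hj
    haveI := Fact.mk hr
    obtain ⟨m, hm⟩ := (isPGroup_of_index_commutator (Q := K) (hindex.trans hj)).exists_card_eq
    exact hnp ⟨r, m, hr, hm⟩
  have htwo : ∀ r : ℕ, r.Prime → ∃ s : ℕ, s.Prime ∧ s ≠ r ∧ s ∣ n := by
    intro r hr
    by_contra hno
    push Not at hno
    exact hnpow r hr _ (Nat.eq_prime_pow_of_unique_prime_dvd hn0 fun {d} hd hdn =>
      by_contra fun h => hno d hd h hdn)
  refine ⟨?_, htwo⟩
  obtain ⟨p, hp, hp2, hpn⟩ := htwo 2 Nat.prime_two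
  haveI := Fact.mk hp
  set a := p ^ n.factorization p with ha
  set qL := QuotientGroup.mk' H₁ with hqL
  have hKab : ∀ x ∈ K, ∀ y ∈ K, Commute (qL x) (qL y) := fun x hx y hy =>
    commutatorElement_eq_one_iff_mul_comm.1 (by
      rw [← map_commutatorElement]
      exact (QuotientGroup.eq_one_iff _).2 (commutator_mem_commutator hx hy))
  let N : Subgroup L :=
    { carrier := {x | x ∈ K ∧ qL x ^ a = 1}
      one_mem' := ⟨one_mem _, by simp⟩
      mul_mem' := fun {x y} hx hy => ⟨mul_mem hx.1 hy.1, by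
        rw [map_mul, (hKab x hx.1 y hy.1).mul_pow, hx.2, hy.2, one_mul]⟩
      inv_mem' := fun {x} hx => ⟨inv_mem hx.1, by rw [map_inv, inv_pow, hx.2, inv_one]⟩ }
  have hNK : N ≤ K := fun x hx => hx.1
  have hHN : H₁ ≤ N := fun x hx => ⟨hlt.le hx, by
    rw [show qL x = 1 from (QuotientGroup.eq_one_iff x).2 hx, one_pow]⟩
  haveI hNn : N.Normal := ⟨fun x hx g => ⟨(inferInstance : K.Normal).conj_mem x hx.1 g, by
    rw [map_mul, map_mul, map_inv, conj_pow, hx.2, mul_one, mul_inv_cancel]⟩⟩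
  have hNpg : IsPGroup p (N.map qL) := by
    rintro ⟨_, x, hx, rfl⟩
    exact ⟨n.factorization p, Subtype.ext (by simpa using hx.2)⟩
  obtain ⟨i, hi⟩ := hNpg.exists_card_eq
  have hNi : H₁.relIndex N = p ^ i := by rw [← hi, ← relIndex_ker, QuotientGroup.ker_mk']
  have hmul := relIndex_mul_relIndex H₁ N K hHN hNK
  rw [← hn] at hmul
  have hi0 : i ≠ 0 := by
    rintro rfl
    obtain ⟨z, hz⟩ := exists_prime_orderOf_dvd_card' p
      (by rw [← relIndex_ker, QuotientGroup.ker_mk']; exact hpn : p ∣ Nat.card (K.map qL))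
    obtain ⟨x, hxK, hx⟩ := z.2
    have hxN : x ∈ N := ⟨hxK, by
      rw [hx, ← orderOf_dvd_iff_pow_eq_one, orderOf_coe, hz]
      exact dvd_pow_self p (hp.factorization_pos_of_dvd hn0 hpn).ne'⟩
    rw [pow_zero] at hNi
    have := (QuotientGroup.eq_one_iff x).2 (relIndex_eq_one.1 hNi hxN)
    rw [← orderOf_coe, ← hx, show qL x = 1 from this, orderOf_one] at hz
    exact hp.ne_one hz.symm
  have hfrob := mem_of_commutator_mem hC hlt.le
  have hd1 := index_dvd_relIndex_sub_one le_rfl hlt.le hfrob hHN hNK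
  have hd := index_dvd_relIndex_sub_one le_rfl hlt.le hfrob hlt.le le_rfl
  rw [← hn, ← hmul] at hd
  rw [← hmul]
  set a' := H₁.relIndex N
  set b := N.relIndex K
  have hbne : b ≠ 1 := fun h => hnpow p hp i (by rw [← hmul, h, mul_one, hNi])
  have hb0 : b ≠ 0 := fun h => hn0 (by rw [← hmul, h, mul_zero])
  have ha1 : 1 < a' := hNi ▸ Nat.one_lt_pow hi0 hp.one_lt
  have hdb : K.index ∣ b - 1 := by
    have h3 : a' * b - 1 = (a' - 1) * b + (b - 1) := by
      rw [Nat.sub_one_mul]
      have : b ≤ a' * b := Nat.le_mul_of_pos_left _ (by omega)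
      omega
    rw [h3] at hd
    exact (Nat.dvd_add_right (hd1.mul_right _)).1 hd
  have hae : 2 * K.index + 1 ≤ a' := by
    have hodda : Odd a' := hNi ▸ (hp.odd_of_ne_two hp2).pow
    obtain ⟨k, hk⟩ := hd1
    obtain ⟨m, hm⟩ := hodda
    obtain ⟨l, hl⟩ := hodde
    rcases k with _ | _ | k
    · omega
    · omega
    · have : K.index * 2 ≤ K.index * (k + 1 + 1) := Nat.mul_le_mul_left _ (by omega)
      omega
  have hbe : K.index + 1 ≤ b := by
    have := Nat.le_of_dvd (by omega) hdb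
    omega
  have he1 : 1 < K.index := one_lt_index_of_ne_top hK2
  calc 2 * K.index ^ 2 + 2 ≤ (2 * K.index + 1) * (K.index + 1) := by ring_nf; omega
    _ ≤ a' * b := Nat.mul_le_mul hae hbe

variable {G : Type v} [Group G] [Fintype G] {τ : (L → ℂ) → (G → ℂ)}

/-- **Feit**: coherence unless the kernel is a nonabelian `p`-group with small abelianisation. -/
theorem frob_coherent (hI : IrrIso (inducedIrrAbove K ⊥) τ) (hnil : Group.IsNilpotent K)
    (hK1 : K ≠ ⊥) (hK2 : K ≠ ⊤) (hcard : Nat.card K ≠ K.index + 1)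
    (hgood : IsMulCommutative K ∨ 4 * K.index ^ 2 + 1 < ⁅K, K⁆.relIndex K ∨
      ¬ ∃ p m : ℕ, p.Prime ∧ Nat.card K = p ^ m) :
    IsCoherent (inducedIrrAbove K ⊥) {1}ᶜ τ := by
  classical
  have := hnil
  have hsolv : Group.IsSolvable K := inferInstance
  set e := K.index with he
  have he0 : 0 < e := Nat.pos_of_ne_zero K.index_ne_zero_of_finite
  have hlt := derived_lt hnil hK1
  set H₁ := ⁅K, K⁆ with hH₁
  have hsub : ∀ X : Subgroup L, inducedIrrAbove K X ⊆ inducedIrrAbove K ⊥ := fun X =>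
    inducedIrrAbove_subset_bot
  -- the linear characters
  have hbase : H₁.relIndex K ≠ e + 1 → IsCoherent (inducedIrrAbove K H₁) {1}ᶜ τ := by
    intro hne
    refine irr_coherent_const_degree (hI.mono (hsub H₁)) (frob_two_members hC hsolv hlt hne) ?_
    have hdeg : ∀ φ ∈ inducedIrrAbove K H₁, φ 1 = (e : ℂ) := by
      intro φ hφ
      obtain ⟨θ, ⟨hθ, -, hker⟩, rfl⟩ := mem_inducedIrrAbove.1 hφ
      have h1 := degree_sq_le (B := H₁) (C := K) (D := K) hlt.le le_rfl le_rfl
        (fun x hx y hy => by simpa [commutatorElement_def] using commutator_mem_commutator hx hy)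
        hθ hker
      rw [relIndex_self, one_pow, one_mul] at h1
      have h2 := charDegree_pos hθ
      have h3 : charDegree θ = 1 := le_antisymm ((Nat.le_self_pow two_ne_zero _).trans h1) h2
      rw [indFun_apply_one, charDegree_spec (IsIrr.isCharacter hθ), h3, Nat.cast_one, mul_one]
    intro φ hφ ψ hψ
    rw [hdeg φ hφ, hdeg ψ hψ]
  by_cases hab : IsMulCommutative K
  · have hbot : H₁ = ⊥ := commutator_eq_bot_iff_comm.2 hab
    rw [← hbot]
    exact hbase (by rw [hbot, relIndex_bot_left]; exact hcard)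
  have hgood' := hgood.resolve_left hab
  have hodde : Odd e := Nat.not_even_iff_odd.1 fun h => hab (commutative_of_even hC h)
  set n := H₁.relIndex K with hn
  have hsize : 4 * e ^ 2 + 2 ≤ n ∨
      (2 * e ^ 2 + 2 ≤ n ∧ ∀ r : ℕ, r.Prime → ∃ s : ℕ, s.Prime ∧ s ≠ r ∧ s ∣ n) := by
    rcases hgood' with h | h
    · exact Or.inl h
    · exact Or.inr (relIndex_ge_of_two_primes hC hnil hK1 hodde hK2 h)
  have hne : n ≠ e + 1 := by
    have : e ≤ e ^ 2 := Nat.le_self_pow two_ne_zero e
    rcases hsize with h | ⟨h, -⟩ <;> omega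
  choose! d hd using fun φ (hφ : φ ∈ inducedIrrAbove K ⊥) =>
    IsChar.degree (IsIrr.isCharacter (hI.irr φ hφ))
  -- one step down the kernel
  suffices key : ∀ A : Subgroup L, A.Normal → A ≤ H₁ → IsCoherent (inducedIrrAbove K A) {1}ᶜ τ →
      IsCoherent (inducedIrrAbove K ⊥) {1}ᶜ τ from key H₁ inferInstance le_rfl (hbase hne)
  intro A
  induction A using WellFoundedLT.induction with
  | _ A ih =>
    intro hAn hAH₁ hA
    by_cases hA0 : A = ⊥
    · exact hA0 ▸ hA
    have hAK : A < K := lt_of_le_of_lt hAH₁ hlt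
    have hclt : ⁅A, K⁆ ⊔ ⊥ < A := commutator_sup_lt
      (Group.nilpotent_of_surjective _ (QuotientGroup.mk'_surjective _)) bot_le hAK.le hA0
    rw [sup_bot_eq] at hclt
    obtain ⟨B, hB0, ⟨hBn, hBA⟩, hBmax⟩ := Finite.exists_le_maximal
      (p := fun B : Subgroup L => B.Normal ∧ B < A) ⟨inferInstance, hclt⟩
    haveI := hBn
    -- the centre of `K / B`
    let D : Subgroup L :=
      { carrier := {x | x ∈ K ∧ ∀ y ∈ K, ⁅x, y⁆ ∈ B}
        one_mem' := ⟨one_mem _, fun y _ => by simp⟩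
        mul_mem' := fun {x y} hx hy => ⟨mul_mem hx.1 hy.1, fun w hw => by
          have h1 : ⁅x * y, w⁆ = x * ⁅y, w⁆ * x⁻¹ * ⁅x, w⁆ := by simp [commutatorElement_def]; group
          rw [h1]
          exact B.mul_mem (hBn.conj_mem _ (hy.2 w hw) x) (hx.2 w hw)⟩
        inv_mem' := fun {x} hx => ⟨inv_mem hx.1, fun w hw => by
          have h1 : ⁅x⁻¹, w⁆ = x⁻¹ * ⁅x, w⁆⁻¹ * x⁻¹⁻¹ := by simp [commutatorElement_def]; group
          rw [h1]
          exact hBn.conj_mem _ (B.inv_mem (hx.2 w hw)) _⟩ }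
    have hDK : D ≤ K := fun x hx => hx.1
    haveI hDn : D.Normal := ⟨fun x hx g => ⟨(inferInstance : K.Normal).conj_mem x hx.1 g, fun y hy => by
      have h1 : ⁅g * x * g⁻¹, y⁆ = g * ⁅x, g⁻¹ * y * g⁆ * g⁻¹ := by
        simp [commutatorElement_def]; group
      rw [h1]
      exact hBn.conj_mem _ (hx.2 _ (by simpa using (inferInstance : K.Normal).conj_mem y hy g⁻¹)) g⟩⟩
    have hAD : A ≤ D := fun x hx => ⟨hAK.le hx, fun y hy => hB0 (commutator_mem_commutator hx hy)⟩
    set h := A.relIndex K with hh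
    have hnh : n ≤ h := Nat.le_of_dvd (Nat.pos_of_ne_zero index_ne_zero_of_finite)
      ⟨A.relIndex H₁, by rw [mul_comm, relIndex_mul_relIndex A H₁ K hAH₁ hlt.le]⟩
    have hmulD := relIndex_mul_relIndex A D K hAD hDK
    have hkey : 4 * e ^ 2 * D.relIndex K < (h - 1) ^ 2 := by
      have hDle : D.relIndex K ≤ h := Nat.le_of_dvd (Nat.pos_of_ne_zero index_ne_zero_of_finite)
        ⟨A.relIndex D, by rw [mul_comm]; exact hmulD.symm⟩
      rcases hsize with hbig | ⟨hmid, hprimes⟩
      · obtain ⟨t, ht⟩ : ∃ t, h = t + 1 := ⟨h - 1, by omega⟩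
        calc 4 * e ^ 2 * D.relIndex K ≤ 4 * e ^ 2 * h := Nat.mul_le_mul_left _ hDle
          _ < _ := by
            rw [ht, Nat.add_sub_cancel]
            have : 4 * e ^ 2 + 1 ≤ t := by omega
            nlinarith
      -- `A / B` is a `p`-group, so the centre is larger
      set q := QuotientGroup.mk' B with hq
      have hker : q.ker = B := QuotientGroup.ker_mk' B
      have hAab : ∀ x ∈ A, ∀ y ∈ A, Commute (q x) (q y) := fun x hx y hy =>
        commutatorElement_eq_one_iff_mul_comm.1 (by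
          rw [← map_commutatorElement]
          exact (QuotientGroup.eq_one_iff _).2 (hB0 (commutator_mem_commutator hx (hAK.le hy))))
      have hcardA : Nat.card (A.map q) = B.relIndex A := by rw [← relIndex_ker, hker]
      obtain ⟨r, hr, hrd⟩ := Nat.exists_prime_and_dvd
        (fun h1 => hBA.not_ge (relIndex_eq_one.1 (hcardA ▸ h1)) : Nat.card (A.map q) ≠ 1)
      haveI := Fact.mk hr
      let C : Subgroup L :=
        { carrier := {x | x ∈ A ∧ q x ^ r = 1}
          one_mem' := ⟨one_mem _, by simp⟩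
          mul_mem' := fun {x y} hx hy => ⟨mul_mem hx.1 hy.1, by
            rw [map_mul, (hAab x hx.1 y hy.1).mul_pow, hx.2, hy.2, one_mul]⟩
          inv_mem' := fun {x} hx => ⟨inv_mem hx.1, by rw [map_inv, inv_pow, hx.2, inv_one]⟩ }
      have hCn : C.Normal := ⟨fun x hx g => ⟨hAn.conj_mem x hx.1 g, by
        rw [map_mul, map_mul, map_inv, conj_pow, hx.2, mul_one, mul_inv_cancel]⟩⟩
      have hBC : B ≤ C := fun x hx => ⟨hBA.le hx, by
        rw [show q x = 1 from (QuotientGroup.eq_one_iff x).2 hx, one_pow]⟩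
      have hCA : C = A := by
        refine ((show C ≤ A from fun x hx => hx.1).eq_or_lt).resolve_right fun hCA => ?_
        have hCB : C ≤ B := hBmax ⟨hCn, hCA⟩ hBC
        obtain ⟨w, hw⟩ := exists_prime_orderOf_dvd_card' r hrd
        obtain ⟨x, hxA, hx⟩ := w.2
        have hxC : x ∈ C := ⟨hxA, by rw [hx, ← orderOf_dvd_iff_pow_eq_one, orderOf_coe, hw]⟩
        rw [← orderOf_coe, ← hx, show q x = 1 from (QuotientGroup.eq_one_iff x).2 (hCB hxC),
          orderOf_one] at hw
        exact hr.ne_one hw.symm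
      have hApg : IsPGroup r (A.map q) := by
        rintro ⟨_, x, hx, rfl⟩
        exact ⟨1, Subtype.ext (by simpa using ((hCA.symm ▸ hx : x ∈ C)).2)⟩
      obtain ⟨s, hs, hsr, hsn⟩ := hprimes r hr
      haveI := Fact.mk hs
      set Kq := K.map q
      haveI hKqn : Group.IsNilpotent Kq :=
        Group.nilpotent_of_surjective (q.subgroupMap K) (q.subgroupMap_surjective K)
      have hcardK : Nat.card Kq = B.relIndex K := by rw [← relIndex_ker, hker]
      have hsK : s ∣ Nat.card Kq := by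
        refine hsn.trans ⟨B.relIndex H₁, ?_⟩
        rw [hcardK, mul_comm, hn, relIndex_mul_relIndex B H₁ K (hBA.le.trans hAH₁) hlt.le]
      obtain ⟨S⟩ : Nonempty (Sylow s Kq) := inferInstance
      have hSne : (S : Subgroup Kq) ≠ ⊥ := S.ne_bot_of_dvd_card hsK
      haveI : (S : Subgroup Kq).Normal :=
        ((Group.isNilpotent_of_finite_tfae (G := Kq)).out 0 3 rfl rfl).mp hKqn s ⟨hs⟩ S
      obtain ⟨z, hz, hz1⟩ := (bot_or_exists_ne_one _).resolve_left
        (Core.inf_center_ne_bot (G := Kq) hSne)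
      obtain ⟨x, hxK, hxz⟩ := z.2
      have hxD : x ∈ D := ⟨hxK, fun y hy => by
        rw [← hker, MonoidHom.mem_ker, map_commutatorElement, hxz,
          commutatorElement_eq_one_iff_mul_comm]
        exact congrArg Subtype.val (mem_center_iff.1 hz.2 ⟨q y, mem_map_of_mem q hy⟩).symm⟩
      have hxA : x ∉ A := fun hxA => by
        obtain ⟨i, hi⟩ := hApg.exists_card_eq
        have h1 : orderOf (z : L ⧸ B) ∣ r ^ i := by
          rw [← hi, ← hxz]
          exact orderOf_dvd_natCard _ (mem_map_of_mem q hxA)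
        obtain ⟨j, hj⟩ := S.2.exists_card_eq
        have h2 : orderOf (z : L ⧸ B) ∣ s ^ j := by
          rw [← hj, orderOf_coe]
          exact orderOf_dvd_natCard _ hz.1
        have h3 := Nat.eq_one_of_dvd_coprimes
          (Nat.Coprime.pow i j ((Nat.coprime_primes hr hs).2 hsr.symm)) h1 h2
        exact hz1 (Subtype.ext (orderOf_eq_one_iff.1 h3))
      have hA2 : 2 ≤ A.relIndex D := by
        have h0 : A.relIndex D ≠ 0 := index_ne_zero_of_finite
        have h1 : A.relIndex D ≠ 1 := fun h => hxA (relIndex_eq_one.1 h hxD)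
        omega
      have h2D : 2 * D.relIndex K ≤ h := by
        rw [hh, ← hmulD]; exact Nat.mul_le_mul_right _ hA2
      obtain ⟨t, ht⟩ : ∃ t, h = t + 1 := ⟨h - 1, by omega⟩
      calc 4 * e ^ 2 * D.relIndex K = 2 * e ^ 2 * (2 * D.relIndex K) := by ring
        _ ≤ 2 * e ^ 2 * h := Nat.mul_le_mul_left _ h2D
        _ < _ := by
          rw [ht, Nat.add_sub_cancel]
          have : 2 * e ^ 2 + 1 ≤ t := by omega
          nlinarith
    -- absorb the characters of degree at most `√[K : D]`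
    obtain ⟨θ₁, hθ₁, hθ₁1⟩ := exists_linear_above (A := A) hsolv hAK
    set T := (inducedIrrAbove_finite (K := K) (A := A)).toFinset
    have hTcoe : (↑T : Set (L → ℂ)) = inducedIrrAbove K A := Set.Finite.coe_toFinset _
    have h1mem : indFun K θ₁ ∈ inducedIrrAbove K A := mem_inducedIrrAbove.2 ⟨θ₁, hθ₁, rfl⟩
    have hd1 : d (indFun K θ₁) = e := by
      have h0 := hd _ (hsub A h1mem)
      rw [indFun_apply_one, hθ₁1, mul_one] at h0
      exact_mod_cast h0.symm
    obtain ⟨T', -, hU, hT'S, hcoh⟩ := irr_coherent_absorb hI d hd T (hTcoe ▸ hsub A) (hTcoe ▸ hA)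
      (indFun K θ₁) ((Set.Finite.mem_toFinset _).2 h1mem)
      (inducedIrrAbove_finite (K := K) (A := B)).toFinset
      (by rw [Set.Finite.coe_toFinset]; exact hsub B) (by
        intro χ hχ _
        have hmem := (Set.Finite.mem_toFinset _).1 hχ
        obtain ⟨θ, hθ, rfl⟩ := mem_inducedIrrAbove.1 hmem
        have hdχ : d (indFun K θ) = e * charDegree θ := by
          have h0 := hd _ (hsub B hmem)
          rw [indFun_apply_one, charDegree_spec (IsIrr.isCharacter hθ.1)] at h0
          exact_mod_cast h0.symm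
        refine ⟨by rw [hd1, hdχ]; exact dvd_mul_right _ _, ?_⟩
        rw [hd1, hdχ, frob_sum_sq hC hAK.le d (fun φ hφ => hd φ (hsub A hφ))]
        have hb := degree_sq_le (B := B) (C := K) (D := D) (hBA.le.trans hAD) hDK le_rfl
          (fun x hx y hy => by simpa [commutatorElement_def] using hx.2 y hy) hθ.1 hθ.2.2
        rw [relIndex_self, one_pow, one_mul] at hb
        have h2 : (2 * e * charDegree θ) ^ 2 < (h - 1) ^ 2 := lt_of_le_of_lt (by
          calc (2 * e * charDegree θ) ^ 2 = 4 * e ^ 2 * charDegree θ ^ 2 := by ring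
            _ ≤ _ := Nat.mul_le_mul_left _ hb) hkey
        have h3 := lt_of_pow_lt_pow_left' 2 h2
        calc 2 * e * (e * charDegree θ) = e * (2 * e * charDegree θ) := by ring
          _ < e * (h - 1) := Nat.mul_lt_mul_of_pos_left h3 he0)
    have h2B : ∃ χ ∈ inducedIrrAbove K B, ∃ ψ ∈ inducedIrrAbove K B, χ ≠ ψ := by
      obtain ⟨χ, hχ, ψ, hψ, hcp⟩ := frob_two_members hC hsolv hAK
        (by have : e ≤ e ^ 2 := Nat.le_self_pow two_ne_zero e
            rcases hsize with h' | ⟨h', -⟩ <;> omega)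
      exact ⟨χ, inducedIrrAbove_mono hBA.le hχ, ψ, inducedIrrAbove_mono hBA.le hψ, hcp⟩
    exact ih B hBA hBn (hBA.le.trans hAH₁) (irr_coherent_subset (hI.mono hT'S)
      (fun φ hφ => hU ((Set.Finite.mem_toFinset _).2 hφ)) h2B hcoh)

end Frob

end Cfsg.Agent.OddChars
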