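import Cfsg.Agent.OddChars.CoherentSteps
import Cfsg.Agent.Core.Frattini

/-!
# Coherence in nilpotent sections (Peterfalvi 6.4, 6.5)
-/

set_option autoImplicit false

namespace Cfsg.Agent.OddChars

open Subgroup
open scoped commutatorElement

universe u v

variable {L : Type u} [Group L] [Fintype L] {G : Type v} [Group G] [Fintype G]
  {τ : (L → ℂ) → (G → ℂ)} {R : (L → ℂ) → Finset (G → ℂ)}

/-- In a nilpotent section `[A, H] M < A` unless `A ≤ M`. -/
theorem commutator_sup_lt {M A H : Subgroup L} [(M.subgroupOf H).Normal] [A.Normal] [H.Normal]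
    [M.Normal] (hnil : Group.IsNilpotent (↥H ⧸ M.subgroupOf H)) (hMA : M ≤ A) (hAH : A ≤ H)
    (hne : A ≠ M) : ⁅A, H⁆ ⊔ M < A := by
  refine lt_of_le_of_ne (sup_le (commutator_le_left A H) hMA) fun e => hne (le_antisymm ?_ hMA)
  set q := QuotientGroup.mk' (M.subgroupOf H) with hq
  have hsurj := QuotientGroup.mk'_surjective (M.subgroupOf H)
  obtain ⟨k, hk⟩ := Subgroup.nilpotent_iff_lowerCentralSeries.1 hnil
  have h1 : (⁅A.subgroupOf H, ⊤⁆ ⊔ M.subgroupOf H).map q = (A.subgroupOf H).map q := by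
    congr 1
    apply map_injective H.subtype_injective
    rw [Subgroup.map_sup, map_commutator, map_subgroupOf_eq_of_le hAH,
      map_subgroupOf_eq_of_le (hMA.trans hAH), ← MonoidHom.range_eq_map, range_subtype]
    exact e
  rw [Subgroup.map_sup, map_commutator, map_top_of_surjective q hsurj,
    show (M.subgroupOf H).map q = ⊥ by rw [Subgroup.map_eq_bot_iff, hq, QuotientGroup.ker_mk'],
    sup_bot_eq] at h1
  have h2 : ∀ i, (A.subgroupOf H).map q ≤ Subgroup.lowerCentralSeries (⊤ : Subgroup (↥H ⧸ M.subgroupOf H)) i := by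
    intro i
    induction i with
    | zero => simp
    | succ i ih =>
      rw [← h1, Subgroup.lowerCentralSeries_succ]
      exact commutator_mono ih le_rfl
  have h3 := h2 k
  rw [hk, le_bot_iff, Subgroup.map_eq_bot_iff, hq, QuotientGroup.ker_mk'] at h3
  intro x hx
  exact h3 (show (⟨x, hAH hx⟩ : H) ∈ A.subgroupOf H from hx)

/-- Peterfalvi (6.4). -/
theorem coherence_nilpotent_section (K : Subgroup L) [K.Normal] (hsolv : Group.IsSolvable K)
    (hS : IsCoherenceSystem (inducedIrrAbove K ⊥) τ R) (M H₁ H : Subgroup L) [M.Normal]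
    [H₁.Normal] [H.Normal] (hMH₁ : M ≤ H₁) (hH₁H : H₁ ≤ H) (hHK : H ≤ K)
    [(M.subgroupOf H).Normal] (hnil : Group.IsNilpotent (↥H ⧸ M.subgroupOf H))
    (hcoh : IsCoherent (inducedIrrAbove K H₁) {1}ᶜ τ) (hbig : 4 * K.index ^ 2 + 1 < H₁.relIndex H) :
    IsCoherent (inducedIrrAbove K M) {1}ᶜ τ := by
  suffices key : ∀ A : Subgroup L, A.Normal → M ≤ A → A ≤ H₁ →
      IsCoherent (inducedIrrAbove K A) {1}ᶜ τ → IsCoherent (inducedIrrAbove K M) {1}ᶜ τ from
    key H₁ inferInstance hMH₁ le_rfl hcoh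
  intro A
  induction A using WellFoundedLT.induction with
  | _ A ih =>
    intro hAn hMA hAH₁ hA
    by_cases hne : A = M
    · exact hne ▸ hA
    have hAH : A ≤ H := hAH₁.trans hH₁H
    have hlt := commutator_sup_lt hnil hMA hAH hne
    refine ih _ hlt inferInstance le_sup_right (hlt.le.trans hAH₁) ?_
    have hH₁lt : H₁ < H := lt_of_le_of_ne hH₁H fun e => by
      rw [e, relIndex_self] at hbig; omega
    have hA_lt : A < K := (hAH₁.trans_lt hH₁lt).trans_le hHK
    refine coherence_descends K hsolv hS A _ H A hA_lt (hlt.trans hA_lt) hlt.le hAH hHK ?_ hA ?_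
    · intro x hx y hy
      exact mem_sup_left (by
        simpa [commutatorElement_def] using commutator_mem_commutator hx hy)
    · set h := A.relIndex H
      have hh : 4 * K.index ^ 2 + 2 ≤ h := by
        have hge : H₁.relIndex H ≤ h :=
          Nat.le_of_dvd (Nat.pos_of_ne_zero (Subgroup.index_ne_zero_of_finite (H := A.subgroupOf H)))
            ⟨A.relIndex H₁, by rw [mul_comm, relIndex_mul_relIndex A H₁ H hAH₁ hH₁H]⟩
        omega
      have hf : A.relIndex K = h * H.relIndex K := (relIndex_mul_relIndex A H K hAH hHK).symm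
      rw [hf, ← relIndex_mul_index hHK]
      have hfpos : 1 ≤ H.relIndex K :=
        Nat.one_le_iff_ne_zero.2 (Subgroup.index_ne_zero_of_finite (H := H.subgroupOf K))
      set f := H.relIndex K
      have hhf : 1 ≤ h * f := Nat.one_le_iff_ne_zero.2 (Nat.mul_ne_zero (by omega) (by omega))
      zify [hhf]
      have hh' : (4 * (K.index : ℤ) ^ 2 + 2) ≤ h := by exact_mod_cast hh
      have hf' : (1 : ℤ) ≤ f := by exact_mod_cast hfpos
      nlinarith [mul_le_mul_of_nonneg_left hh' (show (0 : ℤ) ≤ (f : ℤ) * f * h by positivity),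
        mul_le_mul_of_nonneg_left hf' (show (0 : ℤ) ≤ (f : ℤ) * h by positivity)]

end Cfsg.Agent.OddChars
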